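import Mathlib

/-!
Permutation groups of degree `p + 1` whose order is divisible by `p` and less than `(p + 1) p²`:
coordinates on `Option (ZMod p)`.
-/

set_option autoImplicit false

namespace CfsgLib.DegPSucc

variable {p : ℕ} [Fact p.Prime]

/-- Translation fixing `none`. -/
def tr (b : ZMod p) : Equiv.Perm (Option (ZMod p)) := (Equiv.addRight b).optionCongr

/-- Scaling fixing `none`. -/
def sc : (ZMod p)ˣ →* Equiv.Perm (Option (ZMod p)) where
  toFun a := (Units.mulLeft a).optionCongr
  map_one' := Equiv.ext fun x => by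
    cases x with
    | none => rfl
    | some x => exact congrArg some (one_mul x)
  map_mul' a b := Equiv.ext fun x => by
    cases x with
    | none => rfl
    | some x => exact congrArg some (mul_assoc (a : ZMod p) (b : ZMod p) x)

@[simp] theorem tr_none (b : ZMod p) : tr b none = none := rfl
@[simp] theorem tr_some (b x : ZMod p) : tr b (some x) = some (x + b) := rfl
@[simp] theorem sc_none (a : (ZMod p)ˣ) : sc a none = none := rfl
@[simp] theorem sc_some (a : (ZMod p)ˣ) (x : ZMod p) : sc a (some x) = some ((a : ZMod p) * x) := rfl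

theorem tr_zero : tr (0 : ZMod p) = 1 := Equiv.ext fun x => by cases x <;> simp

theorem tr_add (b c : ZMod p) : tr b * tr c = tr (b + c) :=
  Equiv.ext fun x => by cases x <;> simp [add_comm b c, add_assoc]

theorem tr_inv (b : ZMod p) : (tr b)⁻¹ = tr (-b) :=
  inv_eq_of_mul_eq_one_right (by rw [tr_add, add_neg_cancel, tr_zero])

theorem sc_tr (a : (ZMod p)ˣ) (b : ZMod p) : sc a * tr b * (sc a)⁻¹ = tr ((a : ZMod p) * b) := by
  rw [mul_inv_eq_iff_eq_mul]
  refine Equiv.ext fun x => ?_
  cases x with
  | none => rfl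
  | some x => simp [mul_add]

theorem tr_pow (b : ZMod p) (n : ℕ) : tr b ^ n = tr ((n : ZMod p) * b) := by
  induction n with
  | zero => simp [tr_zero]
  | succ n ih => rw [pow_succ, ih, tr_add]; congr 1; push_cast; ring

theorem tr_pow_prime (b : ZMod p) : tr b ^ p = 1 := by rw [tr_pow, ZMod.natCast_self, zero_mul, tr_zero]

/-- Coordinates: the group contains all translations, is transitive, and its stabiliser of `none`
consists of affine maps. -/
structure Coord (G : Subgroup (Equiv.Perm (Option (ZMod p)))) : Prop where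
  tr_mem : ∀ b, tr b ∈ G
  transitive : ∀ x y, ∃ g ∈ G, g x = y
  affine : ∀ g ∈ G, g none = none → ∃ a b, g = tr b * sc a

variable {G : Subgroup (Equiv.Perm (Option (ZMod p)))}

/-- The scalars of a group. -/
def scalars (G : Subgroup (Equiv.Perm (Option (ZMod p)))) : Subgroup (ZMod p)ˣ := G.comap sc

theorem mem_scalars {a : (ZMod p)ˣ} : a ∈ scalars G ↔ sc a ∈ G := Iff.rfl

theorem sc_injective : Function.Injective (sc (p := p)) := fun a b h => by
  have := congrArg (fun g : Equiv.Perm (Option (ZMod p)) => g (some 1)) h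
  simpa [Units.val_inj] using this

theorem Coord.affine' (h : Coord G) {g : Equiv.Perm (Option (ZMod p))} (hg : g ∈ G) (h0 : g none = none) :
    ∃ a ∈ scalars G, ∃ b, g = tr b * sc a := by
  obtain ⟨a, b, rfl⟩ := h.affine g hg h0
  refine ⟨a, ?_, b, rfl⟩
  have := G.mul_mem (G.inv_mem (h.tr_mem b)) hg
  rwa [inv_mul_cancel_left] at this

theorem Coord.fix_two (h : Coord G) {g : Equiv.Perm (Option (ZMod p))} (hg : g ∈ G) (h0 : g none = none)
    (h1 : g (some 0) = some 0) : ∃ a ∈ scalars G, g = sc a := by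
  obtain ⟨a, ha, b, rfl⟩ := h.affine' hg h0
  refine ⟨a, ha, ?_⟩
  simp at h1
  rw [h1, tr_zero, one_mul]

theorem Coord.exists_mem (h : Coord G) (x y : Option (ZMod p)) (hxy : x ≠ y) :
    ∃ g ∈ G, g none = x ∧ g (some 0) = y := by
  obtain ⟨g, hg, hgx⟩ := h.transitive none x
  have hy : g⁻¹ y ≠ none := fun e => hxy (by rw [← hgx, ← e]; simp)
  obtain ⟨c, hc⟩ := Option.ne_none_iff_exists'.mp hy
  refine ⟨g * tr c, G.mul_mem hg (h.tr_mem c), by simp [hgx], ?_⟩
  simp [← hc]

/-- There is an element interchanging `none` and `some 0`. -/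
theorem Coord.exists_swap (h : Coord G) : ∃ w ∈ G, w none = some 0 ∧ w (some 0) = none := by
  obtain ⟨g, hg, h1, h2⟩ := h.exists_mem (some 0) none (by simp)
  exact ⟨g, hg, h1, h2⟩

/-- The stabiliser of `none` is the semidirect product of translations and scalars. -/
noncomputable def Coord.stabEquiv (h : Coord G) :
    ZMod p × scalars G ≃ MulAction.stabilizer G (none : Option (ZMod p)) :=
  Equiv.ofBijective (fun x => ⟨⟨tr x.1 * sc (x.2 : (ZMod p)ˣ), G.mul_mem (h.tr_mem _) x.2.2⟩, by
    show (tr x.1 * sc (x.2 : (ZMod p)ˣ)) none = none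
    simp⟩) ⟨fun x y hxy => by
      have h1 : tr x.1 * sc (x.2 : (ZMod p)ˣ) = tr y.1 * sc (y.2 : (ZMod p)ˣ) :=
        congrArg (fun g => ((g : G) : Equiv.Perm (Option (ZMod p)))) (congrArg Subtype.val hxy)
      have h2 := congrArg (fun g : Equiv.Perm (Option (ZMod p)) => g (some 0)) h1
      have h3 := congrArg (fun g : Equiv.Perm (Option (ZMod p)) => g (some 1)) h1
      simp at h2 h3
      rw [h2] at h3
      exact Prod.ext h2 (Subtype.ext (Units.ext (add_right_cancel h3))),
    fun g => by
      obtain ⟨a, ha, b, hab⟩ := h.affine' g.1.2 g.2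
      exact ⟨(b, ⟨a, ha⟩), Subtype.ext (Subtype.ext hab.symm)⟩⟩

theorem Coord.card_eq (h : Coord G) : Nat.card G = (p + 1) * p * Nat.card (scalars G) := by
  haveI : MulAction.IsPretransitive G (Option (ZMod p)) :=
    ⟨fun x y => by obtain ⟨g, hg, hgxy⟩ := h.transitive x y; exact ⟨⟨g, hg⟩, hgxy⟩⟩
  rw [← (MulAction.stabilizer G (none : Option (ZMod p))).card_mul_index, MulAction.index_stabilizer_of_transitive,
    ← Nat.card_congr h.stabEquiv, Nat.card_prod, Nat.card_zmod, Finite.card_option, Nat.card_zmod]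
  ring

theorem card_scalars_dvd (G : Subgroup (Equiv.Perm (Option (ZMod p)))) : Nat.card (scalars G) ∣ p - 1 := by
  have := Subgroup.card_subgroup_dvd_card (scalars G)
  rwa [Nat.card_units, Nat.card_zmod] at this

/-- A subgroup containing the translations that is transitive inherits coordinates. -/
theorem Coord.mono (h : Coord G) {K : Subgroup (Equiv.Perm (Option (ZMod p)))} (hKG : K ≤ G) (htr : ∀ b, tr b ∈ K)
    (hK : ∀ x y, ∃ g ∈ K, g x = y) : Coord K :=
  ⟨htr, hK, fun g hg h0 => h.affine g (hKG hg) h0⟩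

/-- Transport to coordinates. -/
theorem exists_coord {α : Type*} [Fintype α] [DecidableEq α] {d : ℕ} (hα : Fintype.card α = p + 1)
    (G : Subgroup (Equiv.Perm α)) [MulAction.IsPretransitive G α] (hG : Nat.card G = (p + 1) * p * d) (hd : d < p) :
    ∃ (e : α ≃ Option (ZMod p)) (G' : Subgroup (Equiv.Perm (Option (ZMod p)))), Coord G' ∧
      G' = G.map e.permCongrHom.toMonoidHom ∧ Nat.card (scalars G') = d := by
  have hp : p.Prime := Fact.out
  obtain ⟨a₀⟩ : Nonempty α := Fintype.card_pos_iff.mp (by omega)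
  set H := MulAction.stabilizer G a₀
  have hH : Nat.card H = p * d := by
    have h1 := H.card_mul_index
    rw [MulAction.index_stabilizer_of_transitive, Nat.card_eq_fintype_card (α := α), hα, hG] at h1
    exact Nat.eq_of_mul_eq_mul_right (show 0 < p + 1 by omega) (by rw [h1]; ring)
  have hd0 : 0 < d := by
    rcases Nat.eq_zero_or_pos d with rfl | h
    · simp [Nat.card_pos.ne'] at hG
    · exact h
  obtain ⟨P⟩ : Nonempty (Sylow p H) := inferInstance
  have hfac : (Nat.card H).factorization p = 1 := by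
    rw [hH, Nat.factorization_mul hp.ne_zero hd0.ne', Finsupp.add_apply, hp.factorization_self,
      Nat.factorization_eq_zero_of_not_dvd fun h => absurd (Nat.le_of_dvd hd0 h) (not_le.mpr hd)]
  have hPcard : Nat.card (P : Subgroup H) = p := by rw [P.card_eq_multiplicity, hfac, pow_one]
  have hn1 : Nat.card (Sylow p H) = 1 := by
    have h1 : Nat.card (Sylow p H) ∣ d := by
      have h2 := P.card_dvd_index
      have h3 := (P : Subgroup H).card_mul_index
      rw [hPcard, hH] at h3
      rwa [Nat.eq_of_mul_eq_mul_left hp.pos h3] at h2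
    have h4 := card_sylow_modEq_one p H
    have h5 := Nat.le_of_dvd hd0 h1
    exact Nat.ModEq.eq_of_lt_of_lt h4 (by omega) hp.one_lt
  haveI : Subsingleton (Sylow p H) := (Nat.card_eq_one_iff_unique.mp hn1).1
  haveI hPn : (P : Subgroup H).Normal := Sylow.normal_of_subsingleton P
  obtain ⟨⟨t, ht⟩, htgen⟩ := (isCyclic_of_prime_card hPcard).exists_generator
  have hord : orderOf t = p := by
    rw [← Subgroup.orderOf_mk (ha := ht), ← Nat.card_zpowers,
      (Subgroup.eq_top_iff' _).mpr htgen, Subgroup.card_top, hPcard]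
  set T : Equiv.Perm α := ((t : G) : Equiv.Perm α) with hT
  have hTord : orderOf T = p := by rw [hT, Subgroup.orderOf_coe, Subgroup.orderOf_coe, hord]
  have hTfix : T a₀ = a₀ := t.2
  have hcyc : T.IsCycle := by
    refine Equiv.Perm.isCycle_of_prime_order (hTord.symm ▸ hp) ?_
    rw [hTord]
    have := Finset.card_le_univ (T.support)
    have := hp.two_le
    omega
  have hsupp : T.support = Finset.univ.erase a₀ := by
    refine Finset.eq_of_subset_of_card_le (fun x hx => Finset.mem_erase.mpr ⟨fun e => ?_, Finset.mem_univ _⟩) ?_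
    · rw [Equiv.Perm.mem_support, e] at hx
      exact hx hTfix
    · rw [← hcyc.orderOf, hTord, Finset.card_erase_of_mem (Finset.mem_univ _), Finset.card_univ, hα]
      omega
  obtain ⟨b₀, hb₀⟩ : ∃ b, b ≠ a₀ := by
    haveI : Nontrivial α := Fintype.one_lt_card_iff_nontrivial.mp (by have := hp.two_le; omega)
    exact exists_ne a₀
  have hbmem : ∀ x, x ≠ a₀ → T x ≠ x := fun x hx => Equiv.Perm.mem_support.mp (by rw [hsupp]; simp [hx])
  let f : Option (ZMod p) → α := fun o => o.elim a₀ fun z => (T ^ z.val) b₀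
  have hpow : ∀ n : ℕ, (T ^ n) b₀ = (T ^ (n % p)) b₀ := fun n => by rw [← hTord, pow_mod_orderOf]
  have hfix : ∀ n : ℕ, (T ^ n) a₀ = a₀ := fun n => Equiv.Perm.pow_apply_eq_self_of_apply_eq_self hTfix n
  have hne : ∀ n : ℕ, (T ^ n) b₀ ≠ a₀ := fun n e => hb₀ ((T ^ n).injective (e.trans (hfix n).symm))
  have hinj : Function.Injective f := by
    intro x y hxy
    cases x with
    | none => cases y with
      | none => rfl
      | some y => exact absurd hxy.symm (hne _)
    | some x => cases y with
      | none => exact absurd hxy (hne _)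
      | some y =>
        have h1 : (T ^ x.val) = T ^ y.val := (hcyc.pow_eq_pow_iff).mpr ⟨b₀, hbmem _ hb₀, hxy⟩
        have h2 := (pow_inj_mod.mp h1)
        rw [hTord, Nat.mod_eq_of_lt (ZMod.val_lt x), Nat.mod_eq_of_lt (ZMod.val_lt y)] at h2
        rw [ZMod.val_injective p h2]
  have hbij : Function.Bijective f :=
    (Fintype.bijective_iff_injective_and_card f).mpr ⟨hinj, by rw [Fintype.card_option, ZMod.card, hα]⟩
  set e : α ≃ Option (ZMod p) := (Equiv.ofBijective f hbij).symm with he
  have he' : ∀ o, e.symm o = f o := fun o => rfl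
  have hsucc : ∀ x : ZMod p, T ((T ^ x.val) b₀) = (T ^ (x + 1).val) b₀ := fun x => by
    rw [← Equiv.Perm.mul_apply, ← pow_succ', hpow, ZMod.val_add, ZMod.val_one]
  have hT1 : e.permCongr T = tr 1 := by
    refine Equiv.ext fun o => ?_
    rw [Equiv.permCongr_apply, Equiv.apply_eq_iff_eq_symm_apply, he', he']
    cases o with
    | none => exact hTfix
    | some x => exact hsucc x
  set G' := G.map e.permCongrHom.toMonoidHom
  have hmem : ∀ g ∈ G, e.permCongr g ∈ G' := fun g hg => Subgroup.mem_map_of_mem _ hg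
  have htr : ∀ b : ZMod p, tr b ∈ G' := fun b => by
    have h1 := G'.pow_mem (hmem T (t : G).2) b.val
    rwa [hT1, tr_pow, ZMod.natCast_zmod_val, mul_one] at h1
  have htrans : ∀ x y, ∃ g ∈ G', g x = y := fun x y => by
    obtain ⟨g, hg⟩ := MulAction.exists_smul_eq G (e.symm x) (e.symm y)
    refine ⟨_, hmem _ g.2, ?_⟩
    rw [Equiv.permCongr_apply, show (g : Equiv.Perm α) (e.symm x) = e.symm y from hg, Equiv.apply_symm_apply]
  have haff : ∀ g ∈ G', g none = none → ∃ a b, g = tr b * sc a := by
    rintro _ ⟨g, hg, rfl⟩ h0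
    change e.permCongr g none = none at h0
    rw [Equiv.permCongr_apply, Equiv.apply_eq_iff_eq_symm_apply] at h0
    let gH : H := ⟨⟨g, hg⟩, h0⟩
    have h1 : gH * t * gH⁻¹ ∈ (P : Subgroup H) := hPn.conj_mem t ht gH
    obtain ⟨k, hk⟩ : ∃ k : ℕ, t ^ k = gH * t * gH⁻¹ := by
      obtain ⟨k, hk⟩ := mem_zpowers_iff_mem_range_orderOf.mp (htgen ⟨_, h1⟩) |> Finset.mem_image.mp
      exact ⟨k, congrArg Subtype.val hk.2⟩
    set σ := e.permCongr g with hσ
    have hσt : σ * tr 1 = tr (k : ZMod p) * σ := by
      rw [show tr (k : ZMod p) = tr 1 ^ k by rw [tr_pow, mul_one], ← hT1, hσ,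
        show e.permCongr T ^ k = e.permCongr (T ^ k) from (map_pow e.permCongrHom T k).symm]
      have h3 : g * T = T ^ k * g := by
        have := congrArg (fun z : H => ((z : G) : Equiv.Perm α)) hk
        simp only [Subgroup.coe_pow, Subgroup.coe_mul, Subgroup.coe_inv] at this
        rw [hT, this, inv_mul_cancel_right]
      exact ((map_mul e.permCongrHom g T).symm.trans (congrArg e.permCongr h3)).trans (map_mul e.permCongrHom _ g)
    have hσ0 : σ none = none := by rw [Equiv.permCongr_apply, Equiv.apply_eq_iff_eq_symm_apply]; exact h0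
    obtain ⟨c, hc⟩ : ∃ c, σ (some 0) = some c := Option.ne_none_iff_exists'.mp fun e =>
      Option.some_ne_none _ (σ.injective (e.trans hσ0.symm))
    have hlin : ∀ n : ℕ, σ (some (n : ZMod p)) = some ((k : ZMod p) * n + c) := by
      intro n
      induction n with
      | zero => simp [hc]
      | succ n ih =>
        have := congrArg (fun z : Equiv.Perm (Option (ZMod p)) => z (some (n : ZMod p))) hσt
        simp only [Equiv.Perm.mul_apply, tr_some, ih] at this
        push_cast
        rw [this]
        congr 1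
        ring
    have hk0 : (k : ZMod p) ≠ 0 := fun h => by
      have h2 := hlin 1
      rw [h, zero_mul, zero_add, ← hc, Nat.cast_one] at h2
      exact one_ne_zero (Option.some_injective _ (σ.injective h2))
    refine ⟨Units.mk0 _ hk0, c, Equiv.ext fun o => ?_⟩
    cases o with
    | none =>
      show σ none = tr c (sc (Units.mk0 (k : ZMod p) hk0) none)
      rw [sc_none, tr_none]
      exact hσ0
    | some x =>
      have := hlin x.val
      rw [ZMod.natCast_zmod_val] at this
      simp only [Equiv.Perm.mul_apply, sc_some, tr_some, Units.val_mk0]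
      exact this
  have hcoord : Coord G' := ⟨htr, htrans, haff⟩
  refine ⟨e, G', hcoord, rfl, ?_⟩
  have h1 := hcoord.card_eq
  rw [Subgroup.card_map_of_injective e.permCongrHom.injective, hG] at h1
  exact (Nat.eq_of_mul_eq_mul_left (Nat.mul_pos (Nat.succ_pos p) hp.pos) h1).symm

end CfsgLib.DegPSucc
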