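import Mathlib
import Cfsg.Agent.DegPSucc.Setup
import Cfsg.Prelude.Def_Perm

/-!
Groups of degree `p + 1` with a regular normal subgroup are semiaffine.
-/

set_option autoImplicit false

namespace CfsgLib.DegPSucc

variable {p : ℕ} [Fact p.Prime] {G : Subgroup (Equiv.Perm (Option (ZMod p)))}

/-- A regular normal subgroup. -/
def HasRegular (G : Subgroup (Equiv.Perm (Option (ZMod p)))) : Prop :=
  ∃ N ≤ G, (∀ g ∈ G, ∀ n ∈ N, g * n * g⁻¹ ∈ N) ∧ Nat.card N = p + 1 ∧ ∀ x y, ∃ n ∈ N, n x = y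

variable {N : Subgroup (Equiv.Perm (Option (ZMod p)))}

theorem ev_bijective (hcard : Nat.card N = p + 1) (htr : ∀ x y, ∃ n ∈ N, n x = y) :
    Function.Bijective fun n : N => (n : Equiv.Perm (Option (ZMod p))) none := by
  classical
  haveI := Fintype.ofFinite N
  refine (Fintype.bijective_iff_surjective_and_card _).mpr ⟨fun y => ?_, ?_⟩
  · obtain ⟨n, hn, h⟩ := htr none y
    exact ⟨⟨n, hn⟩, h⟩
  · rw [← Nat.card_eq_fintype_card, hcard, Fintype.card_option, ZMod.card]

theorem elementary (h : Coord G) (hnorm : ∀ g ∈ G, ∀ n ∈ N, g * n * g⁻¹ ∈ N) (hcard : Nat.card N = p + 1)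
    (htr : ∀ x y, ∃ n ∈ N, n x = y) (hp2 : p ≠ 2) : ∀ n : N, n * n = 1 := by
  haveI : Fact (Nat.Prime 2) := ⟨Nat.prime_two⟩
  have hev := ev_bijective hcard htr
  have heven : 2 ∣ Nat.card N := by
    rw [hcard]
    exact even_iff_two_dvd.mp (((Fact.out : p.Prime).odd_of_ne_two hp2).add_one)
  obtain ⟨t, ht⟩ := exists_prime_orderOf_dvd_card' (G := N) 2 heven
  intro n
  by_cases hn : n = 1
  · rw [hn, one_mul]
  have hne : ∀ z : N, z ≠ 1 → ∃ c, (z : Equiv.Perm (Option (ZMod p))) none = some c := fun z hz =>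
    Option.ne_none_iff_exists'.mp fun e => hz (hev.1 (show (z : Equiv.Perm (Option (ZMod p))) none = _ by rw [e]; rfl))
  obtain ⟨c, hc⟩ := hne n hn
  obtain ⟨c', hc'⟩ := hne t fun e => by rw [e, orderOf_one] at ht; omega
  have hconj : (⟨_, hnorm _ (h.tr_mem (c - c')) t t.2⟩ : N) = n := hev.1 (by
    show (tr (c - c') * (t : Equiv.Perm (Option (ZMod p))) * (tr (c - c'))⁻¹) none = _
    rw [tr_inv]
    simp [hc, hc'])
  have htt : (t : Equiv.Perm (Option (ZMod p))) * t = 1 := by
    have := pow_orderOf_eq_one t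
    rw [ht, pow_two] at this
    exact congrArg Subtype.val this
  apply Subtype.ext
  rw [← hconj]
  show tr (c - c') * (t : Equiv.Perm (Option (ZMod p))) * (tr (c - c'))⁻¹ * (tr (c - c') * t * (tr (c - c'))⁻¹) = 1
  calc _ = tr (c - c') * ((t : Equiv.Perm (Option (ZMod p))) * t) * (tr (c - c'))⁻¹ := by group
    _ = 1 := by rw [htt, mul_one, mul_inv_cancel]

set_option maxHeartbeats 2000000 in
/-- The semiaffine conclusion. -/
theorem semiaffine (h : Coord G) (hR : HasRegular G) (hp5 : 5 ≤ p) :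
    ∃ q : ℕ, q.Prime ∧ p + 1 = 2 ^ q ∧ (Nat.card (scalars G) = 1 ∨ Nat.card (scalars G) = q) ∧
      ∃ e : Option (ZMod p) ≃ GaloisField 2 q, ∀ g ∈ G, (e.symm.trans (g.trans e)) ∈ Cfsg.semiaffineGroup (GaloisField 2 q) := by
  classical
  obtain ⟨N, hNG, hnorm, hcard, htr⟩ := hR
  haveI : Fact (Nat.Prime 2) := ⟨Nat.prime_two⟩
  have hp : p.Prime := Fact.out
  have hev := ev_bijective hcard htr
  have hsq := elementary h hnorm hcard htr (by omega)
  letI : CommGroup N :=
    { (inferInstance : Group N) with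
      mul_comm := fun a b => by
        have ha := inv_eq_of_mul_eq_one_right (hsq a)
        have hb := inv_eq_of_mul_eq_one_right (hsq b)
        have hab := inv_eq_of_mul_eq_one_right (hsq (a * b))
        rw [mul_inv_rev, ha, hb] at hab
        exact hab.symm }
  obtain ⟨q, hq⟩ : ∃ q, Nat.card N = 2 ^ q := by
    refine IsPGroup.iff_card.mp ?_
    intro n
    exact ⟨1, by rw [pow_one, pow_two, hsq]⟩
  have hpq : p + 1 = 2 ^ q := by rw [← hcard, hq]
  have hq1 : q ≠ 1 := by rintro rfl; omega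
  have hqp : q.Prime := (Nat.prime_of_pow_sub_one_prime hq1 (show (2 ^ q - 1).Prime by rw [← hpq]; simpa using hp)).2
  -- conjugation
  let cj : ∀ g : Equiv.Perm (Option (ZMod p)), g ∈ G → Additive N →+ Additive N := fun g hg =>
    MonoidHom.toAdditive (MonoidHom.mk' (fun n : N => (⟨g * n * g⁻¹, hnorm g hg n n.2⟩ : N)) fun a b =>
      Subtype.ext (by show g * (a * b : N) * g⁻¹ = g * a * g⁻¹ * (g * b * g⁻¹); simp [mul_assoc]))
  let ev : Additive N ≃ Option (ZMod p) := Additive.toMul.trans (Equiv.ofBijective _ hev)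
  have hev0 : ev 0 = none := rfl
  have hcj : ∀ g hg v, g none = none → ev (cj g hg v) = g (ev v) := fun g hg v h0 => by
    show (g * ((Additive.toMul v : N) : Equiv.Perm (Option (ZMod p))) * g⁻¹) none = _
    rw [Equiv.Perm.mul_apply, Equiv.Perm.mul_apply, show g⁻¹ none = none from by
      rw [Equiv.Perm.inv_eq_iff_eq, h0]]
    rfl
  let T : AddMonoid.End (Additive N) := cj (tr 1) (h.tr_mem 1)
  have hT : ∀ v, ev (T v) = tr 1 (ev v) := fun v => hcj (tr 1) (h.tr_mem 1) v rfl
  have hTn : ∀ (n : ℕ) v, ev ((T ^ n) v) = tr (n : ZMod p) (ev v) := by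
    intro n
    induction n with
    | zero => intro v; simp [tr_zero]
    | succ n ih =>
      intro v
      rw [pow_succ', show (T * T ^ n) v = T ((T ^ n) v) from rfl, hT, ih, ← Equiv.Perm.mul_apply, tr_add]
      congr 2
      push_cast
      ring
  set v₀ : Additive N := ev.symm (some 0)
  have hv₀ : v₀ ≠ 0 := fun e => by
    have := congrArg ev e
    rw [Equiv.apply_symm_apply, hev0] at this
    exact Option.some_ne_none _ this
  have hgen : ∀ v, v ≠ 0 → ∃ i : ℕ, (T ^ i) v₀ = v := by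
    intro v hv
    obtain ⟨c, hc⟩ := Option.ne_none_iff_exists'.mp fun e => hv (ev.injective (e.trans hev0.symm))
    exact ⟨c.val, ev.injective (by rw [hTn, Equiv.apply_symm_apply, tr_some, zero_add, ZMod.natCast_zmod_val, hc])⟩
  let A := Subring.closure ({T} : Set (AddMonoid.End (Additive N)))
  letI : CommRing A := Subring.closureCommRingOfComm fun x hx y hy => by
    rw [Set.mem_singleton_iff] at hx hy
    rw [hx, hy]
  have hTA : T ∈ A := Subring.subset_closure rfl
  let ι : A → Additive N := fun a => (a : AddMonoid.End (Additive N)) v₀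
  have hcomm : ∀ (a : A) (i : ℕ) v, (a : AddMonoid.End (Additive N)) ((T ^ i) v) = (T ^ i) ((a : AddMonoid.End (Additive N)) v) := by
    intro a i v
    have := congrArg (fun z : A => (z : AddMonoid.End (Additive N)) v) (mul_comm a (⟨T, hTA⟩ ^ i))
    simpa using this
  have hinj : ∀ a : A, ι a = 0 → a = 0 := by
    intro a ha
    refine Subtype.ext (DFunLike.ext (F := AddMonoid.End (Additive N)) _ _ fun v => ?_)
    rcases eq_or_ne v 0 with rfl | hv
    · simp
    · obtain ⟨i, rfl⟩ := hgen v hv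
      rw [hcomm, show (a : AddMonoid.End (Additive N)) v₀ = 0 from ha]
      simp
  let ιh : A →+ Additive N := AddMonoidHom.mk' ι fun _ _ => rfl
  have hbij : Function.Bijective ιh := by
    refine ⟨(injective_iff_map_eq_zero ιh).mpr hinj, fun v => ?_⟩
    rcases eq_or_ne v 0 with rfl | hv
    · exact ⟨0, rfl⟩
    · obtain ⟨i, rfl⟩ := hgen v hv
      exact ⟨⟨T, hTA⟩ ^ i, by show ((⟨T, hTA⟩ ^ i : A) : AddMonoid.End (Additive N)) v₀ = _; rw [SubmonoidClass.coe_pow]⟩
  haveI : Finite A := Finite.of_injective _ hbij.1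
  haveI : Fintype A := Fintype.ofFinite A
  haveI : NoZeroDivisors A := ⟨fun {a b} hab => by
    rcases eq_or_ne b 0 with hb | hb
    · exact Or.inr hb
    · refine Or.inl (hinj a ?_)
      have hb' : ι b ≠ 0 := fun e => hb (hinj b e)
      obtain ⟨i, hi⟩ := hgen _ hb'
      have h0 : (a : AddMonoid.End (Additive N)) (ι b) = 0 := by
        show ((a * b : A) : AddMonoid.End (Additive N)) v₀ = 0
        rw [hab]; rfl
      rw [← hi, hcomm] at h0
      exact ev.injective ((tr (i : ZMod p)).injective (by rw [← hTn, h0, hev0, tr_none]))⟩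
  haveI : Nontrivial A := ⟨⟨0, 1, fun e => hv₀ (congrArg ι e).symm⟩⟩
  haveI : IsDomain A := NoZeroDivisors.to_isDomain A
  letI : Field A := Fintype.fieldOfDomain A
  haveI : Fintype (GaloisField 2 q) := Fintype.ofFinite _
  have hAcard : Fintype.card A = Fintype.card (GaloisField 2 q) := by
    rw [← Nat.card_eq_fintype_card, ← Nat.card_eq_fintype_card, GaloisField.card 2 q hqp.ne_zero,
      Nat.card_congr (Equiv.ofBijective _ hbij), Nat.card_congr Additive.toMul, hq]
  let Φ : Additive N ≃+ GaloisField 2 q :=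
    (AddEquiv.ofBijective ιh hbij).symm.trans (FiniteField.ringEquivOfCardEq hAcard).toAddEquiv
  set ω : GaloisField 2 q := FiniteField.ringEquivOfCardEq hAcard (⟨T, hTA⟩ : A) with hω
  have hΦ : ∀ v, Φ (T v) = ω * Φ v := by
    intro v
    obtain ⟨a, rfl⟩ := hbij.2 v
    have h1 : T (ιh a) = ιh (⟨T, hTA⟩ * a) := rfl
    show FiniteField.ringEquivOfCardEq hAcard ((AddEquiv.ofBijective ιh hbij).symm (T (ιh a))) = _ * FiniteField.ringEquivOfCardEq hAcard ((AddEquiv.ofBijective ιh hbij).symm (ιh a))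
    rw [h1, hω, ← map_mul]
    congr 1
    exact ((AddEquiv.ofBijective ιh hbij).symm_apply_apply (⟨T, hTA⟩ * a)).trans
      (congrArg (fun z => (⟨T, hTA⟩ : A) * z) ((AddEquiv.ofBijective ιh hbij).symm_apply_apply a).symm)
  have hΦn : ∀ (n : ℕ) v, Φ ((T ^ n) v) = ω ^ n * Φ v := by
    intro n
    induction n with
    | zero => intro v; simp
    | succ n ih => intro v; rw [pow_succ', show (T * T ^ n) v = T ((T ^ n) v) from rfl, hΦ, ih, pow_succ', mul_assoc]
  have hΦ₀ : Φ v₀ = 1 := by
    show FiniteField.ringEquivOfCardEq hAcard ((AddEquiv.ofBijective ιh hbij).symm (ιh 1)) = 1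
    rw [show (AddEquiv.ofBijective ιh hbij).symm (ιh 1) = 1 from (AddEquiv.ofBijective ιh hbij).symm_apply_apply 1, map_one]
  have hgenF : ∀ x, x ≠ 0 → ∃ i : ℕ, ω ^ i = x := fun x hx => by
    obtain ⟨i, hi⟩ := hgen (Φ.symm x) fun e => hx (by rw [← Φ.apply_symm_apply x, e, map_zero])
    exact ⟨i, by rw [← mul_one (ω ^ i), ← hΦ₀, ← hΦn, hi, Φ.apply_symm_apply]⟩
  have hωord : orderOf ω = p := by
    refine orderOf_eq_prime ?_ fun e => ?_
    · have := hΦn p v₀
      rwa [hΦ₀, mul_one, show (T ^ p) v₀ = v₀ from ev.injective (by rw [hTn, ZMod.natCast_self, tr_zero]; rfl), hΦ₀, eq_comm] at this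
    · have := hΦ v₀
      rw [e, one_mul] at this
      have h2 := congrArg ev (Φ.injective this)
      rw [hT, Equiv.apply_symm_apply, tr_some, zero_add] at h2
      exact one_ne_zero (Option.some_injective _ h2)
  -- stabiliser elements are semilinear
  have hsemi : ∀ a ∈ scalars G, ∀ b, ∃ φ : GaloisField 2 q ≃+* GaloisField 2 q, φ ω = ω ^ ((a : (ZMod p)ˣ) : ZMod p).val ∧
      ∃ u : GaloisField 2 q, u ≠ 0 ∧ ∀ v, Φ (ev.symm ((tr b * sc a : Equiv.Perm (Option (ZMod p))) (ev v))) = u * φ (Φ v) := by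
    intro a ha b
    have hg : tr b * sc a ∈ G := G.mul_mem (h.tr_mem b) ha
    set g := tr b * sc a with hgdef
    have h0 : g none = none := by simp [hgdef]
    let S : GaloisField 2 q →+ GaloisField 2 q := (Φ.toAddMonoidHom.comp (cj g hg)).comp Φ.symm.toAddMonoidHom
    have hS : ∀ v, S (Φ v) = Φ (ev.symm (g (ev v))) := fun v => by
      show Φ (cj g hg (Φ.symm (Φ v))) = _
      rw [Φ.symm_apply_apply]
      exact congrArg Φ (ev.injective (by rw [hcj g hg v h0, Equiv.apply_symm_apply]))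
    set j := ((a : (ZMod p)ˣ) : ZMod p).val
    have hconj : ∀ x, g (tr 1 x) = tr (j : ZMod p) (g x) := by
      intro x
      rw [hgdef, ZMod.natCast_zmod_val]
      cases x with
      | none => simp
      | some x => simp only [Equiv.Perm.mul_apply, sc_some, tr_some]; congr 1; ring
    have hSω : ∀ x, S (ω * x) = ω ^ j * S x := by
      intro x
      obtain ⟨v, rfl⟩ := Φ.surjective x
      rw [← hΦ, hS, hS, hT, hconj, ← hΦn]
      exact congrArg Φ (ev.injective (by rw [hTn, Equiv.apply_symm_apply, Equiv.apply_symm_apply]))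
    have hS1 : S 1 ≠ 0 := by
      rw [← hΦ₀, hS]
      intro e
      have h2 : ev.symm (g (ev v₀)) = 0 := Φ.injective (e.trans (map_zero Φ).symm)
      rw [Equiv.symm_apply_eq, hev0, Equiv.apply_symm_apply, ← h0] at h2
      exact Option.some_ne_none _ (g.injective h2)
    have hpow : ∀ i : ℕ, S (ω ^ i) = ω ^ (j * i) * S 1 := by
      intro i
      induction i with
      | zero => simp
      | succ i ih => rw [pow_succ', hSω, ih, ← mul_assoc, ← pow_add]; ring_nf
    let φ : GaloisField 2 q →+* GaloisField 2 q :=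
      { toFun := fun x => (S 1)⁻¹ * S x
        map_one' := inv_mul_cancel₀ hS1
        map_mul' := fun x y => by
          rcases eq_or_ne x 0 with rfl | hx
          · simp
          rcases eq_or_ne y 0 with rfl | hy
          · simp
          obtain ⟨i, rfl⟩ := hgenF x hx
          obtain ⟨k, rfl⟩ := hgenF y hy
          rw [← pow_add, hpow, hpow, hpow, mul_add, pow_add]
          field_simp
        map_zero' := by simp
        map_add' := fun x y => by rw [map_add, mul_add] }
    have hφbij : Function.Bijective φ := Finite.injective_iff_bijective.mp φ.injective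
    refine ⟨RingEquiv.ofBijective φ hφbij, ?_, S 1, hS1, fun v => ?_⟩
    · show (S 1)⁻¹ * S ω = ω ^ j
      have h1 := hpow 1
      rw [pow_one, mul_one] at h1
      rw [h1]
      field_simp
    · show _ = S 1 * ((S 1)⁻¹ * S (Φ v))
      rw [← mul_assoc, mul_inv_cancel₀ hS1, one_mul, hS]
  -- the order of the scalar group
  have hd : Nat.card (scalars G) ∣ q := by
    choose φ hφ _ using fun a : scalars G => hsemi a a.2 0
    have hmod : ∀ n, ω ^ (n % p) = ω ^ n := fun n => by
      have := pow_mod_orderOf ω n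
      rwa [hωord] at this
    let f : scalars G →* (GaloisField 2 q ≃ₐ[ZMod 2] GaloisField 2 q) := MonoidHom.mk'
      (fun a => AlgEquiv.ofRingEquiv (f := φ a) fun z => by rw [← ZMod.natCast_zmod_val z, map_natCast, map_natCast])
      fun a b => by
        refine AlgEquiv.ext fun x => ?_
        show φ (a * b) x = φ a (φ b x)
        rcases eq_or_ne x 0 with rfl | hx
        · simp
        obtain ⟨i, rfl⟩ := hgenF x hx
        rw [map_pow, map_pow, map_pow, hφ, hφ, map_pow, hφ, ← pow_mul ω, Subgroup.coe_mul, Units.val_mul,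
          ZMod.val_mul, pow_mul, hmod]
        exact congrArg (· ^ i) (pow_mul ω _ _)
    have hf : Function.Injective f := fun a b hab => by
      have h1 : φ a ω = φ b ω := congrArg (fun z : GaloisField 2 q ≃ₐ[ZMod 2] GaloisField 2 q => z ω) hab
      rw [hφ, hφ] at h1
      exact Subtype.ext (Units.ext (ZMod.val_injective p (pow_injOn_Iio_orderOf
        (Set.mem_Iio.mpr (by rw [hωord]; exact ZMod.val_lt _))
        (Set.mem_Iio.mpr (by rw [hωord]; exact ZMod.val_lt _)) h1)))
    have := Subgroup.card_dvd_of_injective f hf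
    rwa [IsGalois.card_aut_eq_finrank, GaloisField.finrank 2 hqp.ne_zero] at this
  refine ⟨q, hqp, hpq, (Nat.dvd_prime hqp).mp hd, ev.symm.trans Φ.toEquiv, fun g hg => ?_⟩
  obtain ⟨n₀, hn₀, hn₀'⟩ := htr none (g none)
  have hg0 : (n₀⁻¹ * g) none = none := by
    rw [Equiv.Perm.mul_apply, Equiv.Perm.inv_eq_iff_eq, hn₀']
  obtain ⟨a, ha, b, hab⟩ := h.affine' (G.mul_mem (G.inv_mem (hNG hn₀)) hg) hg0
  obtain ⟨φ, -, u, hu, hφ⟩ := hsemi a ha b
  refine ⟨Units.mk0 u hu, Φ (Additive.ofMul ⟨n₀, hn₀⟩), φ, fun x => ?_⟩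
  obtain ⟨v, rfl⟩ := Φ.surjective x
  show Φ (ev.symm (g (ev (Φ.symm (Φ v))))) = _
  rw [Φ.symm_apply_apply, show g = n₀ * (tr b * sc a) by rw [← hab, mul_inv_cancel_left],
    Equiv.Perm.mul_apply n₀]
  have hadd : ∀ w, n₀ (ev w) = ev (Additive.ofMul ⟨n₀, hn₀⟩ + w) := fun w => rfl
  rw [← ev.apply_symm_apply ((tr b * sc a) (ev v)), hadd, Equiv.symm_apply_apply, map_add, hφ, Units.val_mk0,
    add_comm]

end CfsgLib.DegPSucc
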