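import Mathlib
import Cfsg.Agent.DegPSucc.Setup
import Cfsg.Agent.DegPSucc.Semiaffine
import Cfsg.Agent.SharpTwo.Basic
import Cfsg.Agent.PiClasses.Action

/-!
Elements interchanging the two base points of a group of degree `p + 1`.
-/

set_option autoImplicit false

namespace CfsgLib.DegPSucc

variable {p : ℕ} [Fact p.Prime] {G : Subgroup (Equiv.Perm (Option (ZMod p)))}

/-- All elements interchanging `none` and `some 0` are involutions. -/
def SwapInvol (G : Subgroup (Equiv.Perm (Option (ZMod p)))) : Prop :=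
  ∀ w ∈ G, w none = some 0 → w (some 0) = none → w * w = 1

section

variable {w : Equiv.Perm (Option (ZMod p))}

theorem Coord.sq_swap (h : Coord G) (hw : w ∈ G) (w0 : w none = some 0) (w1 : w (some 0) = none) :
    ∃ c ∈ scalars G, w * w = sc c :=
  h.fix_two (G.mul_mem hw hw) (by simp [w0, w1]) (by simp [w0, w1])

theorem Coord.conj_swap (h : Coord G) (hw : w ∈ G) (w0 : w none = some 0) (w1 : w (some 0) = none)
    {a : (ZMod p)ˣ} (ha : a ∈ scalars G) : ∃ a' ∈ scalars G, w * sc a * w⁻¹ = sc a' := by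
  have e0 : Equiv.symm w none = some 0 := by rw [Equiv.symm_apply_eq, w1]
  have e1 : Equiv.symm w (some 0) = none := by rw [Equiv.symm_apply_eq, w0]
  exact h.fix_two (G.mul_mem (G.mul_mem hw ha) (G.inv_mem hw)) (by simp [e0, w1]) (by simp [e1, w0])

theorem Coord.eq_mul_sc (h : Coord G) (hw : w ∈ G) (w0 : w none = some 0) (w1 : w (some 0) = none)
    {v : Equiv.Perm (Option (ZMod p))} (hv : v ∈ G) (v0 : v none = some 0) (v1 : v (some 0) = none) :
    ∃ b ∈ scalars G, v = w * sc b := by
  have e0 : Equiv.symm w none = some 0 := by rw [Equiv.symm_apply_eq, w1]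
  have e1 : Equiv.symm w (some 0) = none := by rw [Equiv.symm_apply_eq, w0]
  obtain ⟨b, hb, hb'⟩ := h.fix_two (G.mul_mem (G.inv_mem hw) hv) (by simp [v0, e1]) (by simp [v1, e0])
  exact ⟨b, hb, by rw [← hb', mul_inv_cancel_left]⟩

/-- Conjugation by a swap as an automorphism of the scalars. -/
noncomputable def Coord.conjHom (h : Coord G) (hw : w ∈ G) (w0 : w none = some 0) (w1 : w (some 0) = none) :
    scalars G →* scalars G :=
  MonoidHom.mk' (fun a => ⟨(h.conj_swap hw w0 w1 a.2).choose, (h.conj_swap hw w0 w1 a.2).choose_spec.1⟩)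
    fun a b => by
      refine Subtype.ext (sc_injective ?_)
      refine (h.conj_swap hw w0 w1 (a * b).2).choose_spec.2.symm.trans ?_
      show _ = sc ((h.conj_swap hw w0 w1 a.2).choose * (h.conj_swap hw w0 w1 b.2).choose)
      rw [map_mul, ← (h.conj_swap hw w0 w1 a.2).choose_spec.2, ← (h.conj_swap hw w0 w1 b.2).choose_spec.2,
        Subgroup.coe_mul, map_mul]
      simp [mul_assoc]

theorem Coord.sc_conjHom (h : Coord G) (hw : w ∈ G) (w0 : w none = some 0) (w1 : w (some 0) = none) (a : scalars G) :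
    sc (h.conjHom hw w0 w1 a : (ZMod p)ˣ) = w * sc (a : (ZMod p)ˣ) * w⁻¹ :=
  (h.conj_swap hw w0 w1 a.2).choose_spec.2.symm

theorem Coord.conjHom_conjHom (h : Coord G) (hw : w ∈ G) (w0 : w none = some 0) (w1 : w (some 0) = none)
    (a : scalars G) : h.conjHom hw w0 w1 (h.conjHom hw w0 w1 a) = a := by
  refine Subtype.ext (sc_injective ?_)
  rw [h.sc_conjHom, h.sc_conjHom]
  obtain ⟨c, -, hc⟩ := h.sq_swap hw w0 w1
  rw [show w * (w * sc (a : (ZMod p)ˣ) * w⁻¹) * w⁻¹ = w * w * sc (a : (ZMod p)ˣ) * (w * w)⁻¹ by group, hc,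
    ← map_inv, ← map_mul, ← map_mul, mul_right_comm, mul_inv_cancel, one_mul]

theorem SwapInvol.conj (hS : SwapInvol G) (hw : w ∈ G) (w0 : w none = some 0) (w1 : w (some 0) = none)
    {a : (ZMod p)ˣ} (ha : a ∈ scalars G) : w * sc a * w⁻¹ = sc a⁻¹ := by
  have h1 := hS (w * sc a) (G.mul_mem hw ha) (by simp [w0]) (by simp [w1])
  rw [map_inv, inv_eq_of_mul_eq_one_right (hS w hw w0 w1), eq_inv_iff_mul_eq_one]
  simpa [mul_assoc] using h1

end

/-- For even `d` there are involutions interchanging the base points, and `p - 1 ≤ 2d`. -/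
theorem even_case (h : Coord G) (hp2 : p ≠ 2) (hd : 2 ∣ Nat.card (scalars G)) :
    (∃ w ∈ G, w none = some 0 ∧ w (some 0) = none ∧ w * w = 1) ∧ p - 1 ≤ 2 * Nat.card (scalars G) ∧
      (2 * Nat.card (scalars G) = p - 1 → SwapInvol G) := by
  classical
  have hp : p.Prime := Fact.out
  haveI : Fact (Nat.Prime 2) := ⟨Nat.prime_two⟩
  have hp3 : 3 ≤ p := by have := hp.two_le; omega
  have h2ne : (2 : ZMod p) ≠ 0 := fun e => hp2 (by
    have h1 := (ZMod.natCast_eq_zero_iff 2 p).mp (by exact_mod_cast e)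
    have h2 := Nat.le_of_dvd (by omega) h1
    omega)
  obtain ⟨z, hz⟩ := exists_prime_orderOf_dvd_card' (G := scalars G) 2 hd
  have hneg : (-1 : (ZMod p)ˣ) ∈ scalars G := by
    have h1 : ((z : (ZMod p)ˣ) : ZMod p) * (z : (ZMod p)ˣ) = 1 := by
      have h3 := pow_orderOf_eq_one z
      rw [hz, pow_two] at h3
      exact congrArg (fun u : scalars G => ((u : (ZMod p)ˣ) : ZMod p)) h3
    rcases mul_self_eq_one_iff.mp h1 with h4 | h4
    · exfalso
      have : z = 1 := Subtype.ext (Units.ext h4)
      rw [this, orderOf_one] at hz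
      omega
    · have : (z : (ZMod p)ˣ) = -1 := Units.ext (by simpa using h4)
      exact this ▸ z.2
  set I : Finset (Equiv.Perm (Option (ZMod p))) :=
    Finset.univ.filter fun g => g ∈ G ∧ g * g = 1 ∧ g ≠ 1 ∧ ∃ x, g x = x with hI
  have hmem : ∀ g, g ∈ I ↔ g ∈ G ∧ g * g = 1 ∧ g ≠ 1 ∧ ∃ x, g x = x := fun g => by simp [hI]
  have hconjI : ∀ t ∈ G, ∀ g ∈ I, t * g * t⁻¹ ∈ I := by
    intro t ht g hg
    obtain ⟨h1, h2, h3, x, hx⟩ := (hmem g).mp hg
    refine (hmem _).mpr ⟨G.mul_mem (G.mul_mem ht h1) (G.inv_mem ht), ?_, ?_, t x, by simp [hx]⟩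
    · rw [show t * g * t⁻¹ * (t * g * t⁻¹) = t * (g * g) * t⁻¹ by group, h2, mul_one, mul_inv_cancel]
    · rwa [Ne, conj_eq_one_iff]
  have hform : ∀ g ∈ I, g none = none → ∃ b, g = tr b * sc (-1) := by
    intro g hg h0
    obtain ⟨h1, h2, h3, -⟩ := (hmem g).mp hg
    obtain ⟨a, ha, b, rfl⟩ := h.affine' h1 h0
    have e1 := congrArg (fun g : Equiv.Perm (Option (ZMod p)) => g (some 0)) h2
    have e2 := congrArg (fun g : Equiv.Perm (Option (ZMod p)) => g (some 1)) h2
    simp at e1 e2
    have h4 : (a : ZMod p) * a = 1 := by linear_combination e2 - e1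
    rcases mul_self_eq_one_iff.mp h4 with h5 | h5
    · exfalso
      rw [h5, one_mul, ← two_mul, mul_eq_zero, or_iff_right h2ne] at e1
      exact h3 (by rw [e1, tr_zero, one_mul, Units.val_eq_one.mp h5, map_one])
    · exact ⟨b, by rw [show a = -1 from Units.ext (by simpa using h5)]⟩
  have hfix2 : ∀ g ∈ I, (Finset.univ.filter fun x => g x = x).card = 2 := by
    intro g hg
    obtain ⟨x, hx⟩ := ((hmem g).mp hg).2.2.2
    obtain ⟨t, ht, htx⟩ := h.transitive none x
    have h0 : (t⁻¹ * g * t⁻¹⁻¹) none = none := by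
      simp only [inv_inv, Equiv.Perm.mul_apply, htx, hx]
      rw [← htx]; simp
    obtain ⟨b, hb⟩ := hform _ (hconjI t⁻¹ (G.inv_mem ht) g hg) h0
    rw [inv_inv] at hb
    have hg' : g = t * (tr b * sc (-1)) * t⁻¹ := by rw [← hb]; group
    have hset : (Finset.univ.filter fun x => g x = x) =
        Finset.image t (Finset.univ.filter fun x => (tr b * sc (-1) : Equiv.Perm (Option (ZMod p))) x = x) := by
      ext y
      simp only [Finset.mem_image, Finset.mem_filter, Finset.mem_univ, true_and]
      constructor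
      · intro hy
        refine ⟨t⁻¹ y, ?_, by simp⟩
        rw [← hb]; simp [hy]
      · rintro ⟨x, hx, rfl⟩
        rw [hg']; simp only [Equiv.Perm.mul_apply, Equiv.Perm.inv_def, Equiv.symm_apply_apply] at hx ⊢
        rw [hx]
    rw [hset, Finset.card_image_of_injective _ t.injective,
      show (Finset.univ.filter fun x => (tr b * sc (-1) : Equiv.Perm (Option (ZMod p))) x = x) = {none, some (b / 2)} from ?_]
    · rw [Finset.card_pair (by simp)]
    ext x
    rw [Finset.mem_filter]
    cases x with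
    | none => simp
    | some x =>
      simp
      rw [eq_div_iff h2ne]
      constructor <;> intro e <;> linear_combination -e
  set n := (I.filter fun g => g none = some 0).card with hn
  have hfixcount : ∀ x, (I.filter fun g => g x = x).card = p := by
    intro x
    obtain ⟨t, ht, htx⟩ := h.transitive none x
    refine Eq.trans ?_ ((Finset.card_univ (α := ZMod p)).trans (ZMod.card p))
    refine (Finset.card_bij (fun b _ => t * (tr b * sc (-1)) * t⁻¹) ?_ ?_ ?_).symm
    · intro b _
      refine Finset.mem_filter.mpr ⟨hconjI t ht _ ((hmem _).mpr ⟨G.mul_mem (h.tr_mem b) hneg, ?_, ?_, none, by simp⟩), ?_⟩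
      · refine Equiv.ext fun y => ?_
        cases y with
        | none => simp
        | some y => simp
      · intro e
        have e1 := congrArg (fun g : Equiv.Perm (Option (ZMod p)) => g (some 1)) e
        have e2 := congrArg (fun g : Equiv.Perm (Option (ZMod p)) => g (some 0)) e
        simp at e1 e2
        exact h2ne (by linear_combination e2 - e1)
      · rw [← htx]; simp
    · intro b _ b' _ e
      have e1 := congrArg (fun g : Equiv.Perm (Option (ZMod p)) => (t⁻¹ * g * t) (some 0)) e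
      simpa using e1
    · intro g hg
      obtain ⟨hgI, hgx⟩ := Finset.mem_filter.mp hg
      have h0 : (t⁻¹ * g * t⁻¹⁻¹) none = none := by
        simp only [inv_inv, Equiv.Perm.mul_apply, htx, hgx]
        rw [← htx]; simp
      obtain ⟨b, hb⟩ := hform _ (hconjI t⁻¹ (G.inv_mem ht) g hgI) h0
      rw [inv_inv] at hb
      exact ⟨b, Finset.mem_univ _, by rw [← hb]; group⟩
  have hpaircount : ∀ x y, x ≠ y → (I.filter fun g => g x = y).card = n := by
    intro x y hxy
    obtain ⟨t, ht, htx, hty⟩ := h.exists_mem x y hxy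
    refine Finset.card_nbij' (fun g => t⁻¹ * g * t⁻¹⁻¹) (fun g => t * g * t⁻¹) ?_ ?_ ?_ ?_
    · intro g hg
      obtain ⟨hgI, hgx⟩ := Finset.mem_filter.mp hg
      refine Finset.mem_filter.mpr ⟨hconjI t⁻¹ (G.inv_mem ht) g hgI, ?_⟩
      simp only [inv_inv, Equiv.Perm.mul_apply, htx, hgx]
      rw [← hty]; simp
    · intro g hg
      obtain ⟨hgI, hgx⟩ := Finset.mem_filter.mp hg
      refine Finset.mem_filter.mpr ⟨hconjI t ht g hgI, ?_⟩
      simp only [Equiv.Perm.mul_apply, show t⁻¹ x = none by rw [← htx]; simp, hgx, hty]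
    · intro g _; group
    · intro g _; group
  have hsum1 : ∑ g ∈ I, (Finset.univ.filter fun x => g x = x).card = (p + 1) * p := by
    simp only [Finset.card_filter]
    rw [Finset.sum_comm]
    simp only [← Finset.card_filter, hfixcount, Finset.sum_const, smul_eq_mul, Finset.card_univ,
      Fintype.card_option, ZMod.card]
  have hsum2 : ∑ g ∈ I, (Finset.univ.filter fun x => ¬ g x = x).card = (p + 1) * (p * n) := by
    have h1 : ∀ g : Equiv.Perm (Option (ZMod p)), (Finset.univ.filter fun x => ¬ g x = x).card =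
        ∑ x, ∑ y ∈ Finset.univ.erase x, if g x = y then 1 else 0 := fun g => by
      rw [Finset.card_filter]
      refine Finset.sum_congr rfl fun x _ => ?_
      rw [Finset.sum_ite_eq]
      simp
    simp only [h1]
    rw [Finset.sum_comm, Finset.sum_congr rfl (g := fun _ => p * n), Finset.sum_const, smul_eq_mul, Finset.card_univ,
      Fintype.card_option, ZMod.card]
    intro x _
    rw [Finset.sum_comm, Finset.sum_congr rfl (g := fun _ => n), Finset.sum_const, smul_eq_mul,
      Finset.card_erase_of_mem (Finset.mem_univ _), Finset.card_univ, Fintype.card_option, ZMod.card, Nat.add_sub_cancel]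
    intro y hy
    rw [← Finset.card_filter, hpaircount x y (Finset.ne_of_mem_erase hy).symm]
  rw [Finset.sum_congr rfl hfix2, Finset.sum_const, smul_eq_mul] at hsum1
  have hmoved : ∀ g ∈ I, (Finset.univ.filter fun x => ¬ g x = x).card = p - 1 := by
    intro g hg
    have := Finset.card_filter_add_card_filter_not (s := Finset.univ) (fun x => g x = x)
    rw [hfix2 g hg, Finset.card_univ, Fintype.card_option, ZMod.card] at this
    omega
  rw [Finset.sum_congr rfl hmoved, Finset.sum_const, smul_eq_mul] at hsum2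
  have hn2 : 2 * n = p - 1 := by
    have h1 : (p + 1) * p * (2 * n) = (p + 1) * p * (p - 1) := by
      calc (p + 1) * p * (2 * n) = 2 * ((p + 1) * (p * n)) := by ring
        _ = 2 * (I.card * (p - 1)) := by rw [hsum2]
        _ = (I.card * 2) * (p - 1) := by ring
        _ = _ := by rw [hsum1]
    exact Nat.eq_of_mul_eq_mul_left (Nat.mul_pos (Nat.succ_pos p) hp.pos) h1
  obtain ⟨w, hw, w0, w1⟩ := h.exists_swap
  set S : Finset (Equiv.Perm (Option (ZMod p))) :=
    Finset.univ.filter fun g => g ∈ G ∧ g none = some 0 ∧ g (some 0) = none with hS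
  have hScard : S.card = Nat.card (scalars G) := by
    haveI := Fintype.ofFinite (scalars G)
    rw [Nat.card_eq_fintype_card, ← Finset.card_univ]
    refine (Finset.card_bij (s := (Finset.univ : Finset (scalars G))) (fun b _ => w * sc (b : (ZMod p)ˣ)) ?_ ?_ ?_).symm
    · intro b _
      exact Finset.mem_filter.mpr ⟨Finset.mem_univ _, G.mul_mem hw b.2, by simp [w0], by simp [w1]⟩
    · intro b _ b' _ e
      exact Subtype.ext (sc_injective (mul_left_cancel e))
    · intro g hg
      obtain ⟨-, hg1, hg2, hg3⟩ := Finset.mem_filter.mp hg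
      obtain ⟨b, hb, rfl⟩ := h.eq_mul_sc hw w0 w1 hg1 hg2 hg3
      exact ⟨⟨b, hb⟩, Finset.mem_univ _, rfl⟩
  have hsub : (I.filter fun g => g none = some 0) ⊆ S := by
    intro g hg
    obtain ⟨hgI, hg0⟩ := Finset.mem_filter.mp hg
    obtain ⟨h1, h2, -⟩ := (hmem g).mp hgI
    refine Finset.mem_filter.mpr ⟨Finset.mem_univ _, h1, hg0, ?_⟩
    rw [← hg0, ← Equiv.Perm.mul_apply, h2, Equiv.Perm.one_apply]
  have hle := Finset.card_le_card hsub
  rw [← hn, hScard] at hle
  refine ⟨?_, by omega, fun he => ?_⟩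
  · obtain ⟨g, hg⟩ := Finset.card_pos.mp (show 0 < (I.filter fun g => g none = some 0).card by omega)
    obtain ⟨-, h1, h2, h3⟩ := Finset.mem_filter.mp (hsub hg)
    exact ⟨g, h1, h2, h3, ((hmem g).mp (Finset.mem_filter.mp hg).1).2.1⟩
  · intro v hv v0 v1
    have heq := Finset.eq_of_subset_of_card_le hsub (by omega)
    have : v ∈ I.filter fun g => g none = some 0 := heq ▸ Finset.mem_filter.mpr ⟨Finset.mem_univ _, hv, v0, v1⟩
    exact ((hmem v).mp (Finset.mem_filter.mp this).1).2.1

end CfsgLib.DegPSucc
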