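import Mathlib
import Cfsg.Agent.CharBasics.Induced
import Cfsg.Agent.CharBasics.Central
import Cfsg.Agent.CharBasics.CyclicTI
import Cfsg.Agent.Clifford.LinChar
import Cfsg.Agent.DegPSucc.Comb
import Cfsg.Agent.DegPSucc.Involutions

/-!
Character argument: if the scalars of odd order are inverted then their index is at most two.
-/

set_option autoImplicit false

namespace CfsgLib.DegPSucc

open CfsgLib.CharBasics CfsgLib.CyclicTI
open scoped ComplexConjugate

theorem nat_sq_sum_eq_one {ι : Type*} (s : Finset ι) (f : ι → ℕ) (h : ∑ i ∈ s, f i * f i = 1) :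
    ∃ a ∈ s, f a = 1 ∧ ∀ i ∈ s, i ≠ a → f i = 0 := by
  classical
  obtain ⟨a, ha, hne⟩ := Finset.exists_ne_zero_of_sum_ne_zero (by rw [h]; exact one_ne_zero)
  rw [← Finset.add_sum_erase _ _ ha] at h
  have h1 : f a * f a = 1 := by omega
  refine ⟨a, ha, Nat.eq_one_of_mul_eq_one_right h1, fun i hi hia => ?_⟩
  have h2 : ∑ i ∈ s.erase a, f i * f i = 0 := by omega
  simpa using (Finset.sum_eq_zero_iff.mp h2) i (Finset.mem_erase.mpr ⟨hia, hi⟩)

theorem classInner_parseval {G : Type*} [Group G] [Fintype G] [Fintype (Cfsg.IrrCharacter G)] {f g : G → ℂ}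
    (hf : Cfsg.IsClassFunction G f) :
    Cfsg.classInner f g = ∑ χ : Cfsg.IrrCharacter G, Cfsg.classInner f (χ : G → ℂ) * conj (Cfsg.classInner g (χ : G → ℂ)) := by
  conv_lhs => rw [classFun_expand hf]
  rw [classInner_sum_left]
  refine Finset.sum_congr rfl fun χ _ => ?_
  rw [classInner_smul_left, classInner_comm g (χ : G → ℂ)]

variable {p : ℕ} [Fact p.Prime] {G : Subgroup (Equiv.Perm (Option (ZMod p)))}

/-- The stabiliser of `none`. -/
abbrev Stab (G : Subgroup (Equiv.Perm (Option (ZMod p)))) : Subgroup G :=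
  MulAction.stabilizer G (none : Option (ZMod p))

variable (h : Coord G)

theorem Coord.el_val (x : ZMod p × scalars G) :
    ((h.stabEquiv x : G) : Equiv.Perm (Option (ZMod p))) = tr x.1 * sc (x.2 : (ZMod p)ˣ) := rfl

theorem Coord.el_mul (b c : ZMod p) (a e : scalars G) :
    h.stabEquiv (b, a) * h.stabEquiv (c, e) = h.stabEquiv (b + ((a : (ZMod p)ˣ) : ZMod p) * c, a * e) := by
  refine Subtype.ext (Subtype.ext ?_)
  simp only [Subgroup.coe_mul, Coord.el_val, map_mul]
  rw [← tr_add, ← sc_tr (a : (ZMod p)ˣ) c]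
  simp [mul_assoc]

theorem Coord.el_one : h.stabEquiv ((0 : ZMod p), (1 : scalars G)) = 1 := by
  refine Subtype.ext (Subtype.ext ?_)
  simp [Coord.el_val, tr_zero]

theorem Coord.symm_one : h.stabEquiv.symm 1 = ((0 : ZMod p), (1 : scalars G)) := by
  rw [Equiv.symm_apply_eq, h.el_one]

/-- The projection of the stabiliser onto the scalars. -/
noncomputable def Coord.proj : Stab G →* scalars G :=
  MonoidHom.mk' (fun y => (h.stabEquiv.symm y).2) fun x y => by
    obtain ⟨⟨b, a⟩, rfl⟩ := h.stabEquiv.surjective x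
    obtain ⟨⟨c, e⟩, rfl⟩ := h.stabEquiv.surjective y
    rw [h.el_mul, Equiv.symm_apply_apply, Equiv.symm_apply_apply, Equiv.symm_apply_apply]

/-- The lifted linear character. -/
noncomputable def Coord.lam (l : scalars G →* ℂˣ) (y : Stab G) : ℂ := (l (h.proj y) : ℂ)

/-- The sum over the scalar translates of an additive character. -/
noncomputable def Coord.theta [Fintype (scalars G)] (z : ZMod p) (y : Stab G) : ℂ :=
  if (h.stabEquiv.symm y).2 = 1 then
    ∑ c : scalars G, ZMod.stdAddChar (z * ((c : (ZMod p)ˣ) : ZMod p) * (h.stabEquiv.symm y).1) else 0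

theorem Coord.lam_el (l : scalars G →* ℂˣ) (b : ZMod p) (a : scalars G) :
    h.lam l (h.stabEquiv (b, a)) = (l a : ℂ) := by
  simp [Coord.lam, Coord.proj]

theorem Coord.theta_el [Fintype (scalars G)] [DecidableEq (scalars G)] (z b : ZMod p) (a : scalars G) :
    h.theta z (h.stabEquiv (b, a)) =
      if a = 1 then ∑ c : scalars G, ZMod.stdAddChar (z * ((c : (ZMod p)ˣ) : ZMod p) * b) else 0 := by
  simp only [Coord.theta, Equiv.symm_apply_apply]

theorem Coord.isClassFunction_lam (l : scalars G →* ℂˣ) : Cfsg.IsClassFunction (Stab G) (h.lam l) := by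
  intro x y
  simp only [Coord.lam, map_mul, map_inv, mul_right_comm _ (h.proj x)]
  simp

theorem Coord.isClassFunction_theta [Fintype (scalars G)] (z : ZMod p) :
    Cfsg.IsClassFunction (Stab G) (h.theta z) := by
  classical
  intro x y
  obtain ⟨⟨b, a⟩, rfl⟩ := h.stabEquiv.surjective x
  obtain ⟨⟨c, e⟩, rfl⟩ := h.stabEquiv.surjective y
  rw [show h.stabEquiv (c, e) * h.stabEquiv (b, a) * (h.stabEquiv (c, e))⁻¹ =
      h.stabEquiv (c + ((e : (ZMod p)ˣ) : ZMod p) * b - ((a : (ZMod p)ˣ) : ZMod p) * c, a) from ?_, h.theta_el, h.theta_el]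
  · split_ifs with ha
    · refine Fintype.sum_equiv (Equiv.mulRight e) _ _ fun u => ?_
      subst ha
      congr 1
      simp
      ring
    · rfl
  · rw [mul_inv_eq_iff_eq_mul, h.el_mul, h.el_mul]
    congr 1
    exact Prod.ext (by ring) (mul_comm _ _)

variable [Fintype G] [Fintype (Stab G)]

theorem Coord.ind_of_fixed (h : Coord G) {f : Stab G → ℂ} (hf : Cfsg.IsClassFunction (Stab G) f) (g : G)
    (Q : Finset (Option (ZMod p))) (hQ : ∀ q, q ∈ Q ↔ (g : Equiv.Perm (Option (ZMod p))) q = q)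
    (r : Option (ZMod p) → G) (hr : ∀ q ∈ Q, (r q : Equiv.Perm (Option (ZMod p))) none = q)
    (k : Option (ZMod p) → Stab G) (hk : ∀ q ∈ Q, (r q)⁻¹ * g * r q = (k q : G)) :
    Cfsg.indFun (Stab G) f g = ∑ q ∈ Q, f (k q) := by
  classical
  simp only [Cfsg.indFun]
  rw [inv_mul_eq_iff_eq_mul₀ (Nat.cast_ne_zero.mpr Nat.card_pos.ne'), Finset.mul_sum]
  rw [← Finset.sum_subset (Finset.subset_univ (Finset.univ.filter fun x : G => (x : Equiv.Perm (Option (ZMod p))) none ∈ Q))]
  · rw [← Finset.sum_fiberwise_of_maps_to (g := fun x : G => (x : Equiv.Perm (Option (ZMod p))) none) (t := Q)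
      (fun x hx => (Finset.mem_filter.mp hx).2)]
    refine Finset.sum_congr rfl fun q hq => ?_
    rw [Finset.filter_filter]
    calc _ = ∑ y : Stab G, f (k q) := by
          refine Finset.sum_bij' (fun x hx => ⟨(r q)⁻¹ * x, ?_⟩) (fun y _ => r q * y) (fun _ _ => Finset.mem_univ _)
            ?_ ?_ ?_ ?_
          · show ((r q : Equiv.Perm (Option (ZMod p)))⁻¹ * (x : Equiv.Perm (Option (ZMod p)))) none = none
            rw [Equiv.Perm.mul_apply, (Finset.mem_filter.mp hx).2.2, Equiv.Perm.inv_eq_iff_eq, hr q hq]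
          · intro y _
            have hy : (r q * (y : G) : G) • (none : Option (ZMod p)) = q := by
              rw [mul_smul, y.2]; exact hr q hq
            refine Finset.mem_filter.mpr ⟨Finset.mem_univ _, ?_, hy⟩
            show ((r q * (y : G) : G) • (none : Option (ZMod p))) ∈ Q
            rw [hy]; exact hq
          · intro x _; simp
          · intro y _; simp
          · intro x hx
            have hm : (r q)⁻¹ * x ∈ Stab G := by
              show ((r q : Equiv.Perm (Option (ZMod p)))⁻¹ * (x : Equiv.Perm (Option (ZMod p)))) none = none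
              rw [Equiv.Perm.mul_apply, (Finset.mem_filter.mp hx).2.2, Equiv.Perm.inv_eq_iff_eq, hr q hq]
            set y : Stab G := ⟨(r q)⁻¹ * x, hm⟩
            have hmem : x⁻¹ * g * x = ((y⁻¹ * k q * y : Stab G) : G) := by
              simp only [y, Subgroup.coe_mul, Subgroup.coe_inv, ← hk q hq]
              group
            rw [hmem, extendByZero_coe]
            have := hf (k q) y⁻¹
            rwa [inv_inv] at this
      _ = _ := by rw [Finset.sum_const, Finset.card_univ, nsmul_eq_mul, Nat.card_eq_fintype_card]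
  · intro x _ hx
    refine extendByZero_of_not_mem _ _ fun hmem => hx (Finset.mem_filter.mpr ⟨Finset.mem_univ _, (hQ _).mpr ?_⟩)
    have h1 : (x⁻¹ * g * x : G) • (none : Option (ZMod p)) = none := hmem
    rw [mul_smul, mul_smul, inv_smul_eq_iff] at h1
    exact h1

theorem Coord.ind_one (h : Coord G) (f : Stab G → ℂ) : Cfsg.indFun (Stab G) f 1 = ((p : ℂ) + 1) * f 1 := by
  haveI : MulAction.IsPretransitive G (Option (ZMod p)) :=
    ⟨fun x y => by obtain ⟨g, hg, hgxy⟩ := h.transitive x y; exact ⟨⟨g, hg⟩, hgxy⟩⟩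
  rw [indFun_apply_one, MulAction.index_stabilizer_of_transitive, Finite.card_option, Nat.card_zmod]
  push_cast
  ring

theorem Coord.ind_tr (h : Coord G) {f : Stab G → ℂ} (hf : Cfsg.IsClassFunction (Stab G) f) {b : ZMod p} (hb : b ≠ 0) :
    Cfsg.indFun (Stab G) f (h.stabEquiv (b, 1) : G) = f (h.stabEquiv (b, 1)) := by
  classical
  rw [h.ind_of_fixed hf _ {none} ?_ (fun _ => 1) ?_ (fun _ => h.stabEquiv (b, 1)) ?_, Finset.sum_singleton]
  · intro q
    rw [Coord.el_val]
    cases q with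
    | none => simp
    | some x => simp [hb]
  · intro q hq; rw [Finset.mem_singleton] at hq; simp [hq]
  · intro q _; simp

theorem Coord.ind_sc (h : Coord G) (hS : SwapInvol G) {f : Stab G → ℂ} (hf : Cfsg.IsClassFunction (Stab G) f)
    {a : scalars G} (ha : a ≠ 1) (b : ZMod p) :
    Cfsg.indFun (Stab G) f (h.stabEquiv (b, a) : G) = f (h.stabEquiv (0, a)) + f (h.stabEquiv (0, a⁻¹)) := by
  classical
  have ha1 : (1 : ZMod p) - ((a : (ZMod p)ˣ) : ZMod p) ≠ 0 := sub_ne_zero.mpr fun e =>
    ha (Subtype.ext (Units.ext e.symm))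
  set c := b / (1 - ((a : (ZMod p)ˣ) : ZMod p))
  have hconj : h.stabEquiv (b, a) * h.stabEquiv (c, 1) = h.stabEquiv (c, 1) * h.stabEquiv (0, a) := by
    rw [h.el_mul, h.el_mul, mul_one, one_mul, mul_zero, add_zero]
    congr 2
    simp only [c]
    field_simp
    ring
  rw [show h.stabEquiv (b, a) = h.stabEquiv (c, 1) * h.stabEquiv (0, a) * (h.stabEquiv (c, 1))⁻¹ by
      rw [← hconj, mul_inv_cancel_right], Subgroup.coe_mul, Subgroup.coe_mul, Subgroup.coe_inv,
    isClassFunction_indFun _ f]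
  obtain ⟨w, hw, w0, w1⟩ := h.exists_swap
  rw [h.ind_of_fixed hf _ {none, some 0} ?_ (fun q => if q = none then 1 else ⟨w, hw⟩) ?_
    (fun q => if q = none then h.stabEquiv (0, a) else h.stabEquiv (0, a⁻¹)) ?_, Finset.sum_pair (by simp)]
  · simp
  · intro q
    rw [Coord.el_val]
    cases q with
    | none => simp
    | some x =>
      simp [tr_zero]
      constructor
      · rintro rfl; simp
      · intro e
        by_contra hx
        exact ha1 (by rw [(mul_eq_right₀ hx).mp e, sub_self])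
  · intro q hq
    rcases Finset.mem_insert.mp hq with rfl | hq
    · simp
    · rw [Finset.mem_singleton] at hq; subst hq; simp [w0]
  · intro q hq
    rcases Finset.mem_insert.mp hq with rfl | hq
    · simp
    · rw [Finset.mem_singleton] at hq
      subst hq
      refine Subtype.ext ?_
      simp only [Option.some_ne_none, if_false, Subgroup.coe_mul, Subgroup.coe_inv, Coord.el_val, tr_zero, one_mul]
      rw [← hS.conj hw w0 w1 a.2, inv_eq_of_mul_eq_one_right (hS w hw w0 w1)]

variable [Fintype (scalars G)] [DecidableEq (scalars G)]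

theorem Coord.inner_stab (h : Coord G) (u v : Stab G → ℂ) :
    Cfsg.classInner u v = ((p : ℂ) * Fintype.card (scalars G))⁻¹ *
      ∑ a : scalars G, ∑ b : ZMod p, u (h.stabEquiv (b, a)) * conj (v (h.stabEquiv (b, a))) := by
  rw [classInner_eq, Finset.sum_comm, ← Fintype.sum_prod_type' (f := fun (b : ZMod p) (a : scalars G) =>
    u (h.stabEquiv (b, a)) * conj (v (h.stabEquiv (b, a))))]
  congr 1
  · rw [← Nat.card_congr h.stabEquiv, Nat.card_prod, Nat.card_zmod, Nat.card_eq_fintype_card, Nat.cast_mul]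
  · exact (Fintype.sum_equiv h.stabEquiv _ _ fun _ => rfl).symm

theorem Coord.inner_ind (h : Coord G) (hS : SwapInvol G) (u : Stab G → ℂ) {f : Stab G → ℂ}
    (hf : Cfsg.IsClassFunction (Stab G) f) :
    Cfsg.classInner (Cfsg.indFun (Stab G) u) (Cfsg.indFun (Stab G) f) =
      ((p : ℂ) * Fintype.card (scalars G))⁻¹ *
        (((p : ℂ) + 1) * (u (h.stabEquiv (0, 1)) * conj (f (h.stabEquiv (0, 1)))) +
          ∑ b ∈ Finset.univ.erase (0 : ZMod p), u (h.stabEquiv (b, 1)) * conj (f (h.stabEquiv (b, 1))) +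
          ∑ a ∈ Finset.univ.erase (1 : scalars G), ∑ b : ZMod p, u (h.stabEquiv (b, a)) *
            conj (f (h.stabEquiv (0, a)) + f (h.stabEquiv (0, a⁻¹)))) := by
  rw [classInner_indFun _ u (isClassFunction_indFun _ f), h.inner_stab]
  congr 1
  rw [← Finset.add_sum_erase _ _ (Finset.mem_univ (1 : scalars G)), ← Finset.add_sum_erase _ _ (Finset.mem_univ (0 : ZMod p))]
  congr 1
  · congr 1
    · rw [h.el_one]
      show u 1 * conj (Cfsg.indFun (Stab G) f ((1 : Stab G) : G)) = _
      rw [Subgroup.coe_one, h.ind_one, map_mul, map_add, Complex.conj_natCast, map_one]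
      ring
    · exact Finset.sum_congr rfl fun b hb => by rw [h.ind_tr hf (Finset.ne_of_mem_erase hb)]
  · exact Finset.sum_congr rfl fun a ha => Finset.sum_congr rfl fun b _ => by
      rw [h.ind_sc hS hf (Finset.ne_of_mem_erase ha) b]

omit [Fintype G] [Fintype (Stab G)] [Fintype (scalars G)] [DecidableEq (scalars G)] in
theorem sum_stdAddChar (z : ZMod p) :
    ∑ b : ZMod p, ZMod.stdAddChar (z * b) = if z = 0 then (p : ℂ) else 0 := by
  have := AddChar.sum_mulShift (R := ZMod p) z (ZMod.isPrimitive_stdAddChar p)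
  rw [ZMod.card] at this
  simp only [mul_comm z]
  rw [this]
  split_ifs <;> simp

theorem Coord.theta_zero (h : Coord G) (z : ZMod p) :
    h.theta z (h.stabEquiv (0, 1)) = (Fintype.card (scalars G) : ℂ) := by
  rw [h.theta_el, if_pos rfl]
  simp

theorem Coord.inner_lam_lam (h : Coord G) (hS : SwapInvol G) (l l' : scalars G →* ℂˣ) [DecidableEq (scalars G →* ℂˣ)] :
    Cfsg.classInner (Cfsg.indFun (Stab G) (h.lam l)) (Cfsg.indFun (Stab G) (h.lam l')) =
      (if l = l' then 1 else 0) + (if l = l'⁻¹ then 1 else 0) := by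
  have key : ∀ m : scalars G →* ℂˣ, ∑ a : scalars G, (l a : ℂ) * conj (m a : ℂ) =
      (Fintype.card (scalars G) : ℂ) * if l = m then 1 else 0 := by
    intro m
    have h1 := inner_hom l m
    rw [classInner_eq, Nat.card_eq_fintype_card, inv_mul_eq_iff_eq_mul₀ (Nat.cast_ne_zero.mpr Fintype.card_ne_zero)] at h1
    exact h1
  rw [h.inner_ind hS _ (h.isClassFunction_lam l')]
  simp only [h.lam_el, map_one, Units.val_one, mul_one, map_add, Finset.sum_const, Finset.card_univ, ZMod.card,
    nsmul_eq_mul, Finset.card_erase_of_mem (Finset.mem_univ _)]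
  rw [← Finset.mul_sum, inv_mul_eq_iff_eq_mul₀ (mul_ne_zero (Nat.cast_ne_zero.mpr (NeZero.ne p))
    (Nat.cast_ne_zero.mpr Fintype.card_ne_zero)), Finset.sum_erase_eq_sub (Finset.mem_univ _)]
  simp only [mul_add, Finset.sum_add_distrib, key l', inv_one, map_one, Units.val_one, mul_one]
  rw [show ∑ a : scalars G, (l a : ℂ) * conj (l' a⁻¹ : ℂ) =
      (Fintype.card (scalars G) : ℂ) * if l = l'⁻¹ then 1 else 0 by
    rw [← key l'⁻¹]
    simp [MonoidHom.inv_apply]]
  rw [Nat.cast_sub (NeZero.pos p)]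
  push_cast
  ring

theorem Coord.inner_lam_theta (h : Coord G) (hS : SwapInvol G) (l : scalars G →* ℂˣ) (z : ZMod p) :
    Cfsg.classInner (Cfsg.indFun (Stab G) (h.lam l)) (Cfsg.indFun (Stab G) (h.theta z)) = if z = 0 then 2 else 1 := by
  rw [h.inner_ind hS _ (h.isClassFunction_theta z)]
  have h3 : ∀ a ∈ Finset.univ.erase (1 : scalars G),
      h.theta z (h.stabEquiv (0, a)) + h.theta z (h.stabEquiv (0, a⁻¹)) = 0 := fun a ha => by
    rw [h.theta_el, h.theta_el, if_neg (Finset.ne_of_mem_erase ha),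
      if_neg fun e => Finset.ne_of_mem_erase ha (inv_eq_one.mp e), add_zero]
  rw [Finset.sum_eq_zero (s := Finset.univ.erase (1 : scalars G))
    (fun a ha => Finset.sum_eq_zero fun b _ => by rw [h3 a ha]; simp), add_zero, h.theta_zero]
  simp only [h.lam_el, map_one, Units.val_one, one_mul, Complex.conj_natCast]
  rw [Finset.sum_erase_eq_sub (Finset.mem_univ _), h.theta_zero, Complex.conj_natCast, ← map_sum,
    Finset.sum_congr rfl (fun b _ => (h.theta_el z b 1).trans (if_pos rfl)), Finset.sum_comm]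
  simp only [sum_stdAddChar, mul_eq_zero, Units.ne_zero, or_false, Finset.sum_const, Finset.card_univ, nsmul_eq_mul]
  rw [inv_mul_eq_iff_eq_mul₀ (mul_ne_zero (Nat.cast_ne_zero.mpr (NeZero.ne p))
    (Nat.cast_ne_zero.mpr Fintype.card_ne_zero))]
  split_ifs <;> simp <;> ring

theorem Coord.inner_theta_theta (h : Coord G) (hS : SwapInvol G) (z y : ZMod p) :
    Cfsg.classInner (Cfsg.indFun (Stab G) (h.theta z)) (Cfsg.indFun (Stab G) (h.theta y)) *
        (Fintype.card (scalars G) : ℂ) =
      (Fintype.card (scalars G) : ℂ) ^ 2 + ∑ c : scalars G, ∑ e : scalars G,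
        (if z * ((c : (ZMod p)ˣ) : ZMod p) = y * ((e : (ZMod p)ˣ) : ZMod p) then (1 : ℂ) else 0) := by
  rw [h.inner_ind hS _ (h.isClassFunction_theta y)]
  rw [Finset.sum_eq_zero (s := Finset.univ.erase (1 : scalars G))
    (fun a ha => Finset.sum_eq_zero fun b _ => by
      rw [h.theta_el z, if_neg (Finset.ne_of_mem_erase ha), zero_mul]), add_zero,
    Finset.sum_erase_eq_sub (Finset.mem_univ _), h.theta_zero, h.theta_zero, Complex.conj_natCast]
  have h4 : ∑ b : ZMod p, h.theta z (h.stabEquiv (b, 1)) * conj (h.theta y (h.stabEquiv (b, 1))) =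
      (p : ℂ) * ∑ c : scalars G, ∑ e : scalars G,
        (if z * ((c : (ZMod p)ˣ) : ZMod p) = y * ((e : (ZMod p)ˣ) : ZMod p) then (1 : ℂ) else 0) := by
    simp only [h.theta_el, if_true, map_sum, Finset.sum_mul_sum]
    rw [Finset.sum_comm]
    simp only [Finset.mul_sum]
    refine Finset.sum_congr rfl fun c _ => ?_
    rw [Finset.sum_comm]
    refine Finset.sum_congr rfl fun e _ => ?_
    calc _ = ∑ b : ZMod p, ZMod.stdAddChar ((z * ((c : (ZMod p)ˣ) : ZMod p) - y * ((e : (ZMod p)ˣ) : ZMod p)) * b) :=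
          Finset.sum_congr rfl fun b _ => by
            rw [← AddChar.map_neg_eq_conj, ← AddChar.map_add_eq_mul]
            congr 1
            ring
      _ = _ := by rw [sum_stdAddChar]; simp [sub_eq_zero]
  rw [h4]
  have hd : (Fintype.card (scalars G) : ℂ) ≠ 0 := Nat.cast_ne_zero.mpr Fintype.card_ne_zero
  have hp : (p : ℂ) ≠ 0 := Nat.cast_ne_zero.mpr (NeZero.ne p)
  field_simp
  ring

theorem Coord.inner_lam_one (h : Coord G) (l : scalars G →* ℂˣ) [DecidableEq (scalars G →* ℂˣ)] :
    Cfsg.classInner (Cfsg.indFun (Stab G) (h.lam l)) (fun _ : G => (1 : ℂ)) = if l = 1 then 1 else 0 := by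
  rw [classInner_indFun _ _ (fun _ _ => rfl), h.inner_stab]
  simp only [h.lam_el, map_one, mul_one, Finset.sum_const, Finset.card_univ, ZMod.card, nsmul_eq_mul]
  rw [← Finset.mul_sum, inv_mul_eq_iff_eq_mul₀ (mul_ne_zero (Nat.cast_ne_zero.mpr (NeZero.ne p))
    (Nat.cast_ne_zero.mpr Fintype.card_ne_zero))]
  split_ifs with hl
  · subst hl; simp
  · rw [sum_hom l hl]; simp

theorem Coord.inner_theta_one (h : Coord G) (z : ZMod p) :
    Cfsg.classInner (Cfsg.indFun (Stab G) (h.theta z)) (fun _ : G => (1 : ℂ)) = if z = 0 then 1 else 0 := by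
  rw [classInner_indFun _ _ (fun _ _ => rfl), h.inner_stab]
  rw [Finset.sum_eq_single_of_mem (1 : scalars G) (Finset.mem_univ _) (fun a _ ha =>
    Finset.sum_eq_zero fun b _ => by rw [h.theta_el, if_neg ha, zero_mul])]
  simp only [h.theta_el, if_true, map_one, mul_one]
  rw [Finset.sum_comm]
  simp only [sum_stdAddChar, mul_eq_zero, Units.ne_zero, or_false, Finset.sum_const, Finset.card_univ, nsmul_eq_mul]
  rw [inv_mul_eq_iff_eq_mul₀ (mul_ne_zero (Nat.cast_ne_zero.mpr (NeZero.ne p))
    (Nat.cast_ne_zero.mpr Fintype.card_ne_zero))]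
  split_ifs <;> ring

/-- The multiplicity of `theta z` in a character is a natural number, and these add up to the degree. -/
theorem Coord.inner_theta_char (h : Coord G) (z : ZMod p) (χ : Cfsg.IrrCharacter G) :
    Cfsg.classInner (Cfsg.indFun (Stab G) (h.theta z)) (χ : G → ℂ) =
      (p : ℂ)⁻¹ * ∑ b : ZMod p, ZMod.stdAddChar (z * b) * conj ((χ : G → ℂ) (h.stabEquiv (b, 1) : G)) := by
  have hcl := isClassFunction (isCharacter_of_irr χ.2)
  rw [classInner_indFun _ _ hcl, h.inner_stab]
  rw [Finset.sum_eq_single_of_mem (1 : scalars G) (Finset.mem_univ _) (fun a _ ha =>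
    Finset.sum_eq_zero fun b _ => by rw [h.theta_el, if_neg ha, zero_mul])]
  simp only [h.theta_el, if_true, Finset.sum_mul]
  rw [Finset.sum_comm, Finset.sum_congr rfl (g := fun _ => ∑ b : ZMod p,
    ZMod.stdAddChar (z * b) * conj ((χ : G → ℂ) (h.stabEquiv (b, 1) : G))), Finset.sum_const, Finset.card_univ,
    nsmul_eq_mul, mul_inv, mul_assoc, inv_mul_cancel_left₀ (Nat.cast_ne_zero.mpr Fintype.card_ne_zero)]
  intro c _
  refine Fintype.sum_equiv (Units.mulLeft (c : (ZMod p)ˣ)) _ _ fun b => ?_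
  have hconj : h.stabEquiv (((c : (ZMod p)ˣ) : ZMod p) * b, 1) =
      h.stabEquiv (0, c) * h.stabEquiv (b, 1) * (h.stabEquiv (0, c))⁻¹ := by
    rw [eq_mul_inv_iff_mul_eq, h.el_mul, h.el_mul]
    simp
  rw [Units.mulLeft_apply, hconj, Subgroup.coe_mul, Subgroup.coe_mul, Subgroup.coe_inv, hcl, mul_assoc]

theorem Coord.exists_nat_theta (h : Coord G) (z : ZMod p) (χ : Cfsg.IrrCharacter G) :
    ∃ m : ℕ, Cfsg.classInner (Cfsg.indFun (Stab G) (h.theta z)) (χ : G → ℂ) = m := by
  let τ : Multiplicative (ZMod p) →* G := MonoidHom.mk' (fun b => (h.stabEquiv (b.toAdd, 1) : G)) fun b c => by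
    rw [← Subgroup.coe_mul, h.el_mul]; simp
  let φ : Multiplicative (ZMod p) →* ℂ :=
    (AddChar.toMonoidHom ((ZMod.stdAddChar (N := p)).mulShift z))
  obtain ⟨m, hm⟩ := classInner_characters_nat (CfsgLib.Clifford.isCharacter_of_hom φ)
    (isCharacter_comp (isCharacter_of_irr χ.2) τ)
  refine ⟨m, ?_⟩
  rw [h.inner_theta_char, ← hm, classInner_eq, Nat.card_congr Multiplicative.toAdd, Nat.card_zmod]
  congr 1
  exact (Fintype.sum_equiv Multiplicative.toAdd _ _ fun _ => rfl).symm

/-- The character argument. -/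
theorem Coord.index_le_two (h : Coord G) (hS : SwapInvol G) (hodd : Odd (Nat.card (scalars G)))
    (h3 : 3 ≤ Nat.card (scalars G)) : p - 1 ∣ 2 * Nat.card (scalars G) := by
  classical
  have hp : p.Prime := Fact.out
  haveI := Fintype.ofFinite (Cfsg.IrrCharacter G)
  haveI : Finite (scalars G →* ℂˣ) := Nat.finite_of_card_ne_zero (by
    rw [CommGroup.card_monoidHom_of_hasEnoughRootsOfUnity]; exact Nat.card_pos.ne')
  haveI := Fintype.ofFinite (scalars G →* ℂˣ)
  set d := Fintype.card (scalars G) with hd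
  rw [Nat.card_eq_fintype_card, ← hd] at hodd h3 ⊢
  obtain ⟨E, hE⟩ := hodd
  choose ν hν using fun (l : scalars G →* ℂˣ) (χ : Cfsg.IrrCharacter G) => classInner_character_nat
    (isCharacter_indFun (Stab G) (CfsgLib.Clifford.isCharacter_of_hom ((Units.coeHom ℂ).comp (l.comp h.proj)))) χ
  choose μ hμ using h.exists_nat_theta
  have hν' : ∀ l χ, Cfsg.classInner (Cfsg.indFun (Stab G) (h.lam l)) (Subtype.val χ) = (ν l χ : ℂ) := hν
  have hpll : ∀ l l', ∑ χ, ν l χ * ν l' χ = (if l = l' then 1 else 0) + (if l = l'⁻¹ then 1 else 0) := by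
    intro l l'
    have h1 := h.inner_lam_lam hS l l'
    rw [classInner_parseval (isClassFunction_indFun _ _)] at h1
    simp only [hν', Complex.conj_natCast] at h1
    exact_mod_cast h1
  have hplt : ∀ l z, ∑ χ, ν l χ * μ z χ = if z = 0 then 2 else 1 := by
    intro l z
    have h1 := h.inner_lam_theta hS l z
    rw [classInner_parseval (isClassFunction_indFun _ _)] at h1
    simp only [hν', hμ, Complex.conj_natCast] at h1
    exact_mod_cast h1
  have hptt : ∀ z y, (∑ χ, μ z χ * μ y χ) * d = d ^ 2 + ∑ c : scalars G, ∑ e : scalars G,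
      if z * ((c : (ZMod p)ˣ) : ZMod p) = y * ((e : (ZMod p)ˣ) : ZMod p) then 1 else 0 := by
    intro z y
    have h1 := h.inner_theta_theta hS z y
    rw [classInner_parseval (isClassFunction_indFun _ _)] at h1
    simp only [hμ, Complex.conj_natCast, ← hd] at h1
    exact_mod_cast h1
  have hone : ∀ l, ν l oneChar = if l = 1 then 1 else 0 := by
    intro l
    have h1 := (hν' l oneChar).symm.trans (h.inner_lam_one l)
    exact_mod_cast h1
  have honeμ : ∀ z, μ z oneChar = if z = 0 then 1 else 0 := by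
    intro z
    have h1 := (hμ z oneChar).symm.trans (h.inner_theta_one z)
    exact_mod_cast h1
  have hdcard : Fintype.card (scalars G →* ℂˣ) = d := by
    rw [← Nat.card_eq_fintype_card, CommGroup.card_monoidHom_of_hasEnoughRootsOfUnity, Nat.card_eq_fintype_card, hd]
  have hne : ∀ l : scalars G →* ℂˣ, l ≠ 1 → l ≠ l⁻¹ := by
    intro l hl e
    refine hl (MonoidHom.ext fun a => ?_)
    have h1 : l a ^ 2 = 1 := by
      rw [pow_two]
      nth_rw 2 [DFunLike.congr_fun e a]
      rw [MonoidHom.inv_apply]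
      exact mul_inv_cancel (l a)
    have h2 : l a ^ d = 1 := by rw [← map_pow, hd, pow_card_eq_one, map_one]
    rw [hE, pow_succ, pow_mul, h1, one_pow, one_mul] at h2
    exact h2
  have hinv : ∀ l : scalars G →* ℂˣ, l⁻¹ = 1 → l = 1 := fun l e => MonoidHom.ext fun a =>
    inv_eq_one.mp (DFunLike.congr_fun e a)
  have h11 : (1 : scalars G →* ℂˣ) = (1 : scalars G →* ℂˣ)⁻¹ := MonoidHom.ext fun a => inv_one.symm
  -- the Steinberg character
  obtain ⟨St, hStm, hSt1, hSt0⟩ : ∃ St ∈ Finset.univ.erase oneChar, ν 1 St = 1 ∧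
      ∀ χ ∈ Finset.univ.erase oneChar, χ ≠ St → ν 1 χ = 0 := by
    refine nat_sq_sum_eq_one _ _ ?_
    have := hpll 1 1
    rw [← Finset.add_sum_erase _ _ (Finset.mem_univ oneChar), hone, if_pos rfl, if_pos h11] at this
    omega
  have hSt' : St ≠ oneChar := Finset.ne_of_mem_erase hStm
  have hν1 : ∀ f : Cfsg.IrrCharacter G → ℕ, ∑ χ, ν 1 χ * f χ = f oneChar + f St := by
    intro f
    rw [← Finset.add_sum_erase _ _ (Finset.mem_univ oneChar), ← Finset.add_sum_erase _ _ hStm, hone, hSt1,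
      Finset.sum_eq_zero fun χ hχ => by rw [hSt0 χ (Finset.mem_of_mem_erase hχ) (Finset.ne_of_mem_erase hχ), zero_mul]]
    simp
  have hStμ : ∀ z, μ z St = 1 := by
    intro z
    have := hplt 1 z
    rw [hν1, honeμ] at this
    split_ifs at this <;> omega
  have hex : ∀ l, l ≠ 1 → ∃ χ, ν l χ = 1 ∧ ∀ χ', χ' ≠ χ → ν l χ' = 0 := by
    intro l hl
    obtain ⟨χ, -, h1, h2⟩ := nat_sq_sum_eq_one Finset.univ (ν l) (by
      rw [hpll l l, if_pos rfl, if_neg (hne l hl)])
    exact ⟨χ, h1, fun χ' h => h2 χ' (Finset.mem_univ _) h⟩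
  haveI : Nonempty (Cfsg.IrrCharacter G) := ⟨oneChar⟩
  choose! X hX1 hX0 using hex
  have hXsum : ∀ l, l ≠ 1 → ∀ f : Cfsg.IrrCharacter G → ℕ, ∑ χ, ν l χ * f χ = f (X l) := fun l hl f => by
    rw [Finset.sum_eq_single (X l) (fun χ _ hχ => by rw [hX0 l hl χ hχ, zero_mul]) (by simp), hX1 l hl, one_mul]
  have hStl : ∀ l, l ≠ 1 → ν l St = 0 := by
    intro l hl
    have h1 := hpll 1 l
    rw [hν1, if_neg hl.symm, if_neg fun e => hl (hinv l e.symm), hone, if_neg hl] at h1
    omega
  set L := Finset.univ.erase (1 : scalars G →* ℂˣ) with hL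
  set Im := L.image X with hIm
  have hImcard : Im.card = E := by
    have h1 : ∑ χ ∈ Im, ∑ l ∈ L, ν l χ = Im.card * 2 := by
      rw [Finset.sum_congr rfl (g := fun _ => 2), Finset.sum_const, smul_eq_mul]
      intro χ hχ
      obtain ⟨l₀, hl₀, rfl⟩ := Finset.mem_image.mp hχ
      have hl₀' := Finset.ne_of_mem_erase hl₀
      have h2 : ∀ l, ν l (X l₀) = (if l = l₀ then 1 else 0) + (if l = l₀⁻¹ then 1 else 0) := fun l => by
        rw [← hpll l l₀, ← hXsum l₀ hl₀' (ν l)]
        exact Finset.sum_congr rfl fun χ _ => mul_comm _ _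
      rw [Finset.sum_congr rfl (fun l _ => h2 l), Finset.sum_add_distrib, Finset.sum_ite_eq', Finset.sum_ite_eq',
        if_pos hl₀, if_pos (Finset.mem_erase.mpr ⟨fun e => hl₀' (hinv l₀ e), Finset.mem_univ _⟩)]
    rw [Finset.sum_comm, Finset.sum_congr rfl (g := fun _ => 1), Finset.sum_const, smul_eq_mul, mul_one, hL,
      Finset.card_erase_of_mem (Finset.mem_univ _), Finset.card_univ, hdcard] at h1
    · omega
    · intro l hl
      have := Finset.ne_of_mem_erase hl
      rw [Finset.sum_eq_single_of_mem (X l) (Finset.mem_image.mpr ⟨l, hl, rfl⟩) (fun χ _ hχ => hX0 l this χ hχ), hX1 l this]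
  have hImμ : ∀ χ ∈ Im, ∀ z, μ z χ = if z = 0 then 2 else 1 := by
    intro χ hχ z
    obtain ⟨l, hl, rfl⟩ := Finset.mem_image.mp hχ
    rw [← hplt l z, hXsum l (Finset.ne_of_mem_erase hl)]
  have hout : ∀ χ ∈ ({oneChar, St} : Finset (Cfsg.IrrCharacter G)), χ ∉ Im := by
    intro χ hχ hχI
    obtain ⟨l, hl, rfl⟩ := Finset.mem_image.mp hχI
    have h1 := hX1 l (Finset.ne_of_mem_erase hl)
    rcases Finset.mem_insert.mp hχ with e | e
    · rw [e, hone, if_neg (Finset.ne_of_mem_erase hl)] at h1; exact zero_ne_one h1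
    · rw [Finset.mem_singleton.mp e, hStl l (Finset.ne_of_mem_erase hl)] at h1; exact zero_ne_one h1
  set O := ({oneChar, St} : Finset (Cfsg.IrrCharacter G)) ∪ Im with hO
  have hsplit : ∀ z y, ∑ χ, μ z χ * μ y χ = (μ z oneChar * μ y oneChar + 1) +
      E * ((if z = 0 then 2 else 1) * (if y = 0 then 2 else 1)) + ∑ χ ∈ Oᶜ, μ z χ * μ y χ := by
    intro z y
    rw [← Finset.sum_add_sum_compl O, hO, Finset.sum_union (Finset.disjoint_left.mpr hout), Finset.sum_pair hSt'.symm,
      hStμ, hStμ, Finset.sum_congr rfl (fun χ hχ => by rw [hImμ χ hχ z, hImμ χ hχ y]), Finset.sum_const, hImcard,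
      smul_eq_mul]
  have hdpos : 0 < d := by omega
  have hμ00 : ∀ χ ∈ Oᶜ, μ 0 χ = 0 := by
    have h1 := hptt 0 0
    simp only [zero_mul, if_true, Finset.sum_const, Finset.card_univ, ← hd, smul_eq_mul, mul_one] at h1
    have h2 : ∑ χ, μ 0 χ * μ 0 χ = 2 * d := Nat.eq_of_mul_eq_mul_right hdpos (by rw [h1]; ring)
    rw [hsplit, honeμ] at h2
    simp only [if_true] at h2
    have h3 : ∑ χ ∈ Oᶜ, μ 0 χ * μ 0 χ = 0 := by omega
    intro χ hχ
    simpa using (Finset.sum_eq_zero_iff.mp h3) χ hχ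
  -- orbit representatives
  set J := (ZMod p)ˣ ⧸ scalars G
  haveI : Fintype J := Fintype.ofFinite J
  let rep : J → ZMod p := fun j => ((Quotient.out j : (ZMod p)ˣ) : ZMod p)
  have hμmul : ∀ z (c : scalars G), μ (z * ((c : (ZMod p)ˣ) : ZMod p)) = μ z := by
    intro z c
    have h1 : h.theta (z * ((c : (ZMod p)ˣ) : ZMod p)) = h.theta z := by
      funext y
      simp only [Coord.theta]
      split_ifs
      · refine Fintype.sum_equiv (Equiv.mulLeft c) _ _ fun e => ?_
        congr 1
        simp only [Equiv.coe_mulLeft, Subgroup.coe_mul, Units.val_mul]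
        ring
      · rfl
    funext χ
    have := hμ (z * ((c : (ZMod p)ˣ) : ZMod p)) χ
    rw [h1, hμ z χ] at this
    exact_mod_cast this.symm
  have hmd : Fintype.card J * d = p - 1 := by
    rw [hd, ← Nat.card_eq_fintype_card, ← Nat.card_eq_fintype_card (α := scalars G),
      ← Subgroup.card_eq_card_quotient_mul_card_subgroup, Nat.card_units, Nat.card_zmod]
  refine bound_of_gram (T := {χ // χ ∈ Oᶜ}) (J := J) (fun χ j => μ (rep j) χ) hp hE (by omega) hmd ?_ ?_
  · intro j k
    have h1 := hptt (rep j) (rep k)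
    have h2 : ∑ c : scalars G, ∑ e : scalars G, (if rep j * ((c : (ZMod p)ˣ) : ZMod p) = rep k * ((e : (ZMod p)ˣ) : ZMod p)
        then 1 else 0) = d * if j = k then 1 else 0 := by
      have hiff : ∀ c e : scalars G, rep j * ((c : (ZMod p)ˣ) : ZMod p) = rep k * ((e : (ZMod p)ˣ) : ZMod p) ↔
          j = k ∧ c = e := by
        intro c e
        constructor
        · intro hce
          have hjk : j = k := by
            rw [← Quotient.out_eq j, ← Quotient.out_eq k]
            refine Quotient.sound (QuotientGroup.leftRel_apply.mpr ?_)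
            have hu : Quotient.out j * (c : (ZMod p)ˣ) = Quotient.out k * (e : (ZMod p)ˣ) := Units.ext (by simpa using hce)
            rw [show (Quotient.out j)⁻¹ * Quotient.out k = (c : (ZMod p)ˣ) * (e : (ZMod p)ˣ)⁻¹ by
              rw [eq_mul_inv_iff_mul_eq, mul_assoc, ← hu, inv_mul_cancel_left]]
            exact mul_mem c.2 (inv_mem e.2)
          refine ⟨hjk, Subtype.ext (Units.ext ?_)⟩
          subst hjk
          exact mul_left_cancel₀ (Units.ne_zero _) hce
        · rintro ⟨rfl, rfl⟩; rfl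
      simp only [hiff]
      by_cases hjk : j = k
      · simp [hjk, hd]
      · simp [hjk]
    rw [h2, pow_two, ← Nat.mul_add] at h1
    have h3 : ∑ χ, μ (rep j) χ * μ (rep k) χ = d + if j = k then 1 else 0 :=
      Nat.eq_of_mul_eq_mul_right hdpos (h1.trans (mul_comm _ _))
    rw [hsplit, honeμ, honeμ, if_neg (Units.ne_zero _), if_neg (Units.ne_zero _), if_neg (Units.ne_zero _),
      if_neg (Units.ne_zero _), ← Finset.sum_coe_sort] at h3
    omega
  · rintro ⟨χ, hχ⟩
    have hdeg : Cfsg.charDegree (χ : G → ℂ) = ∑ z : ZMod p, μ z χ := by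
      have h1 : (Cfsg.charDegree (χ : G → ℂ) : ℂ) = ∑ z : ZMod p, (μ z χ : ℂ) := by
        simp only [← hμ, h.inner_theta_char, ← Finset.mul_sum]
        rw [Finset.sum_comm]
        simp only [← Finset.sum_mul, fun b : ZMod p => show ∑ z : ZMod p, ZMod.stdAddChar (z * b) = if b = 0 then (p : ℂ) else 0 by
          simp only [mul_comm _ b]; exact sum_stdAddChar b, ite_mul, zero_mul, Finset.sum_ite_eq', Finset.mem_univ, if_true]
        rw [inv_mul_cancel_left₀ (Nat.cast_ne_zero.mpr hp.ne_zero), h.el_one, Subgroup.coe_one,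
          apply_one (isCharacter_of_irr χ.2), Complex.conj_natCast]
      exact_mod_cast h1
    have hdvd := degree_dvd χ
    rw [h.card_eq, Nat.card_eq_fintype_card, ← hd, hdeg] at hdvd
    refine dvd_trans (dvd_of_eq ?_) hdvd
    rw [← Finset.add_sum_erase _ _ (Finset.mem_univ (0 : ZMod p)), hμ00 χ hχ, zero_add]
    rw [show ∑ z ∈ Finset.univ.erase (0 : ZMod p), μ z χ = ∑ u : (ZMod p)ˣ, μ (u : ZMod p) χ from ?_]
    · rw [Finset.mul_sum, ← Fintype.sum_equiv (Subgroup.groupEquivQuotientProdSubgroup (s := scalars G)).symm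
        (fun x => μ (((Subgroup.groupEquivQuotientProdSubgroup (s := scalars G)).symm x : (ZMod p)ˣ) : ZMod p) χ)
        (fun u : (ZMod p)ˣ => μ (u : ZMod p) χ) (fun _ => rfl), Fintype.sum_prod_type]
      refine Finset.sum_congr rfl fun j _ => ?_
      rw [Finset.sum_congr rfl (g := fun _ => μ (rep j) χ), Finset.sum_const, Finset.card_univ, smul_eq_mul, hd]
      intro c _
      obtain ⟨c', hc'⟩ : ∃ c' : scalars G, (Subgroup.groupEquivQuotientProdSubgroup (s := scalars G)).symm (j, c) =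
          Quotient.out j * (c' : (ZMod p)ˣ) := by
        refine ⟨⟨(Quotient.out j)⁻¹ * (Subgroup.groupEquivQuotientProdSubgroup (s := scalars G)).symm (j, c), ?_⟩, by simp⟩
        refine QuotientGroup.eq.mp ?_
        rw [QuotientGroup.out_eq']
        exact (congrArg Prod.fst ((Subgroup.groupEquivQuotientProdSubgroup (s := scalars G)).apply_symm_apply (j, c))).symm
      rw [hc', Units.val_mul, hμmul]
    · refine Finset.sum_bij' (fun z hz => Units.mk0 z (Finset.ne_of_mem_erase hz)) (fun u _ => (u : ZMod p))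
        (fun _ _ => Finset.mem_univ _) (fun u _ => by simp) (fun _ _ => rfl) (fun u _ => Units.ext rfl) (fun _ _ => rfl)

end CfsgLib.DegPSucc
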