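import Mathlib
import Cfsg.Agent.DegPSucc.Chars
import Cfsg.Agent.SharpTwo.Basic
import Cfsg.Agent.PiClasses.Action

/-!
Odd number of scalars: either a regular normal subgroup, or all swaps are involutions.
-/

set_option autoImplicit false

namespace CfsgLib.DegPSucc

variable {p : ℕ} [Fact p.Prime] {G : Subgroup (Equiv.Perm (Option (ZMod p)))}

theorem hasRegular_of_trivial (h : Coord G) (hd : Nat.card (scalars G) = 1) : HasRegular G := by
  haveI : MulAction.IsMultiplyPretransitive G (Option (ZMod p)) 2 := by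
    refine MulAction.is_two_pretransitive_iff.mpr ?_
    intro a b c e hab hce
    obtain ⟨g, hg, g0, g1⟩ := h.exists_mem a b hab
    obtain ⟨k, hk, k0, k1⟩ := h.exists_mem c e hce
    refine ⟨⟨k * g⁻¹, G.mul_mem hk (G.inv_mem hg)⟩, ?_, ?_⟩
    · show (k * g⁻¹) a = c
      rw [← g0]; simp [k0]
    · show (k * g⁻¹) b = e
      rw [← g1]; simp [k1]
  have hsharp : ∀ x : Fin 2 ↪ Option (ZMod p), MulAction.stabilizer G x = ⊥ := by
    intro x
    rw [eq_bot_iff]
    intro g hg
    obtain ⟨t, ht, t0, t1⟩ := h.exists_mem (x 0) (x 1) fun e => absurd (x.injective e) (by decide)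
    have e0 : (g : Equiv.Perm (Option (ZMod p))) (x 0) = x 0 := DFunLike.congr_fun (MulAction.mem_stabilizer_iff.mp hg) 0
    have e1 : (g : Equiv.Perm (Option (ZMod p))) (x 1) = x 1 := DFunLike.congr_fun (MulAction.mem_stabilizer_iff.mp hg) 1
    obtain ⟨a, ha, hga⟩ := h.fix_two (G.mul_mem (G.mul_mem (G.inv_mem ht) g.2) ht)
      (by simp [t0, e0]; rw [← t0]; simp) (by simp [t1, e1]; rw [← t1]; simp)
    have : (⟨a, ha⟩ : scalars G) = 1 := (Nat.card_eq_one_iff_unique.mp hd).1.elim _ _
    rw [show a = 1 from congrArg Subtype.val this, map_one, mul_assoc, inv_mul_eq_one] at hga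
    have hg1 : (g : Equiv.Perm (Option (ZMod p))) * t = 1 * t := by rw [one_mul, ← hga]
    exact Subgroup.mem_bot.mpr (Subtype.ext (mul_right_cancel hg1))
  obtain ⟨_, _, N, _, _, h1, h2, hN, _, _, _, _, htr⟩ := CfsgLib.SharpTwo.exists_regular_normal (G := G) hsharp
    (by rw [Finite.card_option, Nat.card_zmod]; have := (Fact.out : p.Prime).two_le; omega)
  refine ⟨N.map G.subtype, Subgroup.map_subtype_le N, ?_, ?_, ?_⟩
  · rintro g hg _ ⟨n, hn, rfl⟩
    exact ⟨⟨g, hg⟩ * n * ⟨g, hg⟩⁻¹, hN.conj_mem n hn _, rfl⟩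
  · rw [Subgroup.card_map_of_injective G.subtype_injective, h2, ← h1, Finite.card_option, Nat.card_zmod]
  · intro x y
    obtain ⟨n, hn, hxy⟩ := htr x y
    exact ⟨n, Subgroup.mem_map_of_mem G.subtype hn, hxy⟩

theorem hasRegular_of_normal (h : Coord G) (hp5 : 5 ≤ p) {K : Subgroup (Equiv.Perm (Option (ZMod p)))} (hK : Coord K)
    (hKG : K ≤ G) (hnorm : ∀ g ∈ G, ∀ k ∈ K, g * k * g⁻¹ ∈ K) (hR : HasRegular K) : HasRegular G := by
  have hp : p.Prime := Fact.out
  obtain ⟨q, hq, hpq, hdq, -⟩ := semiaffine hK hR hp5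
  obtain ⟨N, hNK, hNn, hNc, hNt⟩ := hR
  have hel := elementary hK hNn hNc hNt (by omega)
  have hodd : Odd (p * Nat.card (scalars K)) := by
    refine (hp.odd_of_ne_two (by omega)).mul ?_
    rcases hdq with e | e
    · rw [e]; exact odd_one
    · rw [e]
      refine hq.odd_of_ne_two ?_
      rintro rfl
      omega
  refine ⟨N, hNK.trans hKG, fun g hg n hn => ?_, hNc, hNt⟩
  haveI : (N.subgroupOf K).Normal := ⟨fun x hx y => hNn y y.2 x hx⟩
  have hidx : (N.subgroupOf K).index = p * Nat.card (scalars K) := by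
    have h1 := (N.subgroupOf K).card_mul_index
    rw [Nat.card_congr (Subgroup.subgroupOfEquivOfLe hNK).toEquiv, hNc, hK.card_eq, mul_assoc] at h1
    exact Nat.eq_of_mul_eq_mul_left (Nat.succ_pos p) h1
  have hmem := hnorm g hg n (hNK hn)
  have h2 := CfsgLib.PiClasses.mem_of_coprime_index (N.subgroupOf K) (x := (⟨g * n * g⁻¹, hmem⟩ : K)) ?_
  · exact h2
  · refine Nat.Coprime.coprime_dvd_left (show _ ∣ 2 from orderOf_dvd_of_pow_eq_one ?_) ?_
    · refine Subtype.ext ?_
      have hnn : n * n = 1 := congrArg Subtype.val (hel ⟨n, hn⟩)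
      rw [pow_two]
      show g * n * g⁻¹ * (g * n * g⁻¹) = 1
      rw [show g * n * g⁻¹ * (g * n * g⁻¹) = g * (n * n) * g⁻¹ by group, hnn, mul_one, mul_inv_cancel]
    · rw [hidx]
      exact (Nat.coprime_two_left.mpr hodd)

theorem mem_sylow_of_dvd {A : Type*} [CommGroup A] [Finite A] {r : ℕ} [Fact r.Prime] (Q : Sylow r A) {x : A}
    (hx : ∃ e, orderOf x ∣ r ^ e) : x ∈ (Q : Subgroup A) := by
  obtain ⟨e, he⟩ := hx
  obtain ⟨i, -, hi⟩ := (Nat.dvd_prime_pow Fact.out).mp he
  obtain ⟨S, hS⟩ := (IsPGroup.of_card (show Nat.card (Subgroup.zpowers x) = r ^ i by rw [Nat.card_zpowers, hi])).exists_le_sylow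
  haveI : (Q : Subgroup A).Normal := Subgroup.normal_of_comm _
  haveI : Subsingleton (Sylow r A) := (Sylow.unique_of_normal Q inferInstance).instSubsingleton
  rw [← Subsingleton.elim S Q]
  exact hS (Subgroup.mem_zpowers x)

theorem orderOf_map_of_isPGroup {A : Type*} [Group A] {r : ℕ} {H : Subgroup A} (hH : IsPGroup r H) (f : A →* A)
    (g : H) : ∃ e, orderOf (f g) ∣ r ^ e := by
  obtain ⟨k, hk⟩ := hH g
  refine ⟨k, orderOf_dvd_of_pow_eq_one ?_⟩
  rw [← map_pow, show (g : A) ^ r ^ k = 1 from congrArg Subtype.val hk, map_one]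

set_option maxHeartbeats 1000000 in
theorem odd_case (hp5 : 5 ≤ p) : ∀ (n : ℕ) (G : Subgroup (Equiv.Perm (Option (ZMod p)))), Coord G →
    Nat.card (scalars G) = n → Odd n → HasRegular G ∨ (2 * n = p - 1 ∧ SwapInvol G) := by
  intro n
  induction n using Nat.strong_induction_on with
  | _ n ih =>
  intro G h hn hodd
  classical
  have hp : p.Prime := Fact.out
  by_cases h1 : n = 1
  · exact Or.inl (hasRegular_of_trivial h (hn.trans h1))
  have hn3 : 3 ≤ n := by obtain ⟨k, rfl⟩ := hodd; omega
  have hdvd : n ∣ p - 1 := hn ▸ card_scalars_dvd G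
  have hnp : n ≤ p - 1 := Nat.le_of_dvd (by omega) hdvd
  obtain ⟨w, hw, w0, w1⟩ := h.exists_swap
  set σ := h.conjHom hw w0 w1
  by_cases hcent : ∃ r, r.Prime ∧ r ∣ n ∧ ∀ (Q : Sylow r (scalars G)), ∀ a ∈ Q, σ a = a
  · obtain ⟨r, hr, hrn, hQ⟩ := hcent
    haveI := Fact.mk hr
    obtain ⟨Q⟩ : Nonempty (Sylow r (scalars G)) := inferInstance
    let ι : scalars G →* G := MonoidHom.mk' (fun a => ⟨sc (a : (ZMod p)ˣ), a.2⟩) fun a b =>
      Subtype.ext (map_mul sc (a : (ZMod p)ˣ) (b : (ZMod p)ˣ))
    have hι : Function.Injective ι := fun a b e => Subtype.ext (sc_injective (congrArg Subtype.val e))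
    have hrp : ¬ r ∣ (p + 1) * p := by
      intro e
      have hrp1 : r ∣ p - 1 := hrn.trans hdvd
      have hr2 : r ≠ 2 := by
        rintro rfl
        exact Nat.not_even_iff_odd.mpr hodd (even_iff_two_dvd.mpr hrn)
      rcases hr.dvd_mul.mp e with e | e
      · have h3 := Nat.dvd_sub e hrp1
        rw [show p + 1 - (p - 1) = 2 by omega] at h3
        exact hr2 ((Nat.prime_dvd_prime_iff_eq hr Nat.prime_two).mp h3)
      · have := (Nat.prime_dvd_prime_iff_eq hr hp).mp e
        have := Nat.le_of_dvd (by omega) hrp1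
        omega
    have hcardG : Nat.card G = (p + 1) * p * n := by rw [h.card_eq, hn]
    let P : Sylow r G := Sylow.ofCard ((Q : Subgroup (scalars G)).map ι) (by
      rw [Subgroup.card_map_of_injective hι, Q.card_eq_multiplicity, hn, hcardG,
        Nat.factorization_mul (Nat.mul_ne_zero (Nat.succ_ne_zero p) hp.ne_zero) (by omega), Finsupp.add_apply,
        Nat.factorization_eq_zero_of_not_dvd hrp, zero_add])
    obtain ⟨z, hzQ, hz1⟩ : ∃ z ∈ (Q : Subgroup (scalars G)), z ≠ 1 := by
      refine (Subgroup.bot_or_exists_ne_one _).resolve_left fun e => ?_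
      have h2 := Q.card_eq_multiplicity
      rw [e, Subgroup.card_bot, hn] at h2
      have h4 : 0 < n.factorization r := hr.factorization_pos_of_dvd (by omega) hrn
      have h5 : r ≤ r ^ n.factorization r := Nat.le_self_pow h4.ne' r
      have := hr.two_le
      omega
    have hP : Subgroup.normalizer ((P : Subgroup G) : Set G) ≤ Subgroup.centralizer ((P : Subgroup G) : Set G) := by
      intro g hg
      rw [Subgroup.mem_centralizer_iff]
      rintro _ ⟨a, ha, rfl⟩
      obtain ⟨a', -, ha'⟩ := (Subgroup.mem_normalizer_iff.mp hg (ι z)).mp ⟨z, hzQ, rfl⟩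
      have hfix : ∀ x, sc (z : (ZMod p)ˣ) x = x → sc (a' : (ZMod p)ˣ) ((g : Equiv.Perm (Option (ZMod p))) x) =
          (g : Equiv.Perm (Option (ZMod p))) x := fun x hx => by
        have e := congrArg (fun y : G => (y : Equiv.Perm (Option (ZMod p))) ((g : Equiv.Perm (Option (ZMod p))) x)) ha'
        simpa [ι, hx] using e
      have ha'1 : ((a' : (ZMod p)ˣ) : ZMod p) ≠ 1 := by
        intro e
        have : a' = 1 := Subtype.ext (Units.ext e)
        rw [this, map_one] at ha'
        exact hz1 (hι ((conj_eq_one_iff.mp ha'.symm).trans (map_one ι).symm))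
      have hpts : ∀ x, sc (a' : (ZMod p)ˣ) x = x → x = none ∨ x = some 0 := by
        intro x hx
        cases x with
        | none => exact Or.inl rfl
        | some x =>
          simp at hx
          rcases eq_or_ne x 0 with rfl | hx0
          · exact Or.inr rfl
          · exact absurd ((mul_eq_right₀ hx0).mp hx) ha'1
      have g0 := hpts _ (hfix none (by simp))
      have g1 := hpts _ (hfix (some 0) (by simp))
      have hne : (g : Equiv.Perm (Option (ZMod p))) none ≠ (g : Equiv.Perm (Option (ZMod p))) (some 0) :=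
        fun e => Option.some_ne_none _ ((g : Equiv.Perm (Option (ZMod p))).injective e).symm
      refine Subtype.ext ?_
      show sc (a : (ZMod p)ˣ) * (g : Equiv.Perm (Option (ZMod p))) = (g : Equiv.Perm (Option (ZMod p))) * sc (a : (ZMod p)ˣ)
      rcases g0 with g0 | g0 <;> rcases g1 with g1 | g1
      · exact absurd (g0.trans g1.symm) hne
      · obtain ⟨b, -, hb⟩ := h.fix_two g.2 g0 g1
        rw [hb, ← map_mul, ← map_mul, mul_comm]
      · obtain ⟨b, -, hb⟩ := h.eq_mul_sc hw w0 w1 g.2 g0 g1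
        have hwa : w * sc (a : (ZMod p)ˣ) = sc (a : (ZMod p)ˣ) * w := by
          have e := h.sc_conjHom hw w0 w1 a
          rw [hQ Q a ha, eq_mul_inv_iff_mul_eq] at e
          exact e.symm
        rw [hb, ← mul_assoc, ← hwa, mul_assoc, mul_assoc, ← map_mul, ← map_mul, mul_comm (a : (ZMod p)ˣ)]
      · exact absurd (g0.trans g1.symm) hne
    obtain ⟨K0, hK0n, hcompl⟩ : ∃ K0 : Subgroup G, K0.Normal ∧ K0.IsComplement' (P : Subgroup G) :=
      ⟨_, MonoidHom.normal_ker _, MonoidHom.ker_transferSylow_isComplement' P hP⟩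
    have hcardK : Nat.card K0 * r ^ n.factorization r = (p + 1) * p * n := by
      have h2 := hcompl.card_mul
      rw [show Nat.card (P : Subgroup G) = r ^ n.factorization r by
        rw [show (P : Subgroup G) = (Q : Subgroup (scalars G)).map ι from rfl, Subgroup.card_map_of_injective hι,
          Q.card_eq_multiplicity, hn], hcardG] at h2
      exact h2
    have hker_idx : K0.index = r ^ n.factorization r := by
      have h2 := K0.card_mul_index
      rw [hcardG, ← hcardK] at h2
      exact Nat.eq_of_mul_eq_mul_left Nat.card_pos h2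
    set K := K0.map G.subtype
    have hKG : K ≤ G := Subgroup.map_subtype_le _
    have hKn : ∀ g ∈ G, ∀ k ∈ K, g * k * g⁻¹ ∈ K := by
      rintro g hg _ ⟨k, hk, rfl⟩
      exact ⟨⟨g, hg⟩ * k * ⟨g, hg⟩⁻¹, hK0n.conj_mem k hk _, rfl⟩
    have htrK : ∀ b, tr b ∈ K := by
      intro b
      refine ⟨⟨tr b, h.tr_mem b⟩, CfsgLib.PiClasses.mem_of_coprime_index K0 ?_, rfl⟩
      rw [hker_idx]
      refine Nat.Coprime.pow_right _ ?_
      refine Nat.Coprime.coprime_dvd_left (show orderOf (⟨tr b, h.tr_mem b⟩ : G) ∣ p from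
        orderOf_dvd_of_pow_eq_one (Subtype.ext (tr_pow_prime b))) ?_
      rw [Nat.coprime_primes hp hr]
      intro e
      exact hrp (e ▸ dvd_mul_left p (p + 1))
    obtain ⟨k₀, hk₀, hk₀n⟩ : ∃ k ∈ K, k none ≠ none := by
      by_contra hc
      push Not at hc
      obtain ⟨g, hg, hgx⟩ := h.transitive (some 0) none
      have e := hc _ (hKn g hg _ (htrK 1))
      rw [Equiv.Perm.mul_apply, Equiv.Perm.mul_apply, show g⁻¹ none = some 0 by rw [← hgx]; simp, tr_some, ← hgx] at e
      exact absurd (g.injective e) (by simp)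
    obtain ⟨c, hc⟩ := Option.ne_none_iff_exists'.mp hk₀n
    have htransK : ∀ x y, ∃ g ∈ K, g x = y := by
      have hto : ∀ x, ∃ g ∈ K, g none = x := by
        intro x
        cases x with
        | none => exact ⟨1, K.one_mem, rfl⟩
        | some x => exact ⟨tr (x - c) * k₀, K.mul_mem (htrK _) hk₀, by simp [hc]⟩
      intro x y
      obtain ⟨g, hg, hgx⟩ := hto x
      obtain ⟨g', hg', hgy⟩ := hto y
      exact ⟨g' * g⁻¹, K.mul_mem hg' (K.inv_mem hg), by rw [← hgx]; simp [hgy]⟩
    have hK : Coord K := h.mono hKG htrK htransK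
    have hdK : Nat.card (scalars K) * r ^ n.factorization r = n := by
      have h2 := hK.card_eq
      rw [Subgroup.card_map_of_injective G.subtype_injective] at h2
      rw [h2, mul_assoc] at hcardK
      exact Nat.eq_of_mul_eq_mul_left (Nat.mul_pos (Nat.succ_pos p) hp.pos) hcardK
    have hr3 : 3 ≤ r ^ n.factorization r := by
      have h4 : 0 < n.factorization r := hr.factorization_pos_of_dvd (by omega) hrn
      have h5 : r ≤ r ^ n.factorization r := Nat.le_self_pow h4.ne' r
      have := hr.two_le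
      have : r ≠ 2 := by
        rintro rfl
        exact Nat.not_even_iff_odd.mpr hodd (even_iff_two_dvd.mpr hrn)
      omega
    have hKpos : 0 < Nat.card (scalars K) := Nat.card_pos
    have h3K : Nat.card (scalars K) * 3 ≤ n := le_of_le_of_eq (Nat.mul_le_mul_left _ hr3) hdK
    have hlt : Nat.card (scalars K) < n := by omega
    rcases ih _ hlt K hK rfl (hodd.of_dvd_nat (Dvd.intro _ hdK)) with hR | ⟨e, -⟩
    · exact Or.inl (hasRegular_of_normal h hp5 hK hKG hKn hR)
    · exfalso
      omega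
  · push Not at hcent
    -- every Sylow subgroup is inverted
    let inv' : scalars G →* scalars G := σ * MonoidHom.id _
    have hinv : ∀ a, σ a = a⁻¹ := by
      have hker : inv'.ker = ⊤ := by
        refine Subgroup.eq_top_of_le_card _ (Nat.le_of_dvd Nat.card_pos ?_)
        rw [Nat.dvd_iff_prime_pow_dvd_dvd]
        intro r v hr hrv
        rcases Nat.eq_zero_or_pos v with rfl | hv
        · simp
        haveI := Fact.mk hr
        have hrn : r ∣ n := hn ▸ (dvd_pow_self r hv.ne').trans hrv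
        obtain ⟨Q, a, haQ, hane⟩ := hcent r hr hrn
        refine dvd_trans ?_ (Subgroup.card_dvd_of_le (H := (Q : Subgroup (scalars G))) ?_)
        · rw [Q.card_eq_multiplicity]
          exact pow_dvd_pow r ((hr.pow_dvd_iff_le_factorization Nat.card_pos.ne').mp hrv)
        · obtain ⟨g, hg⟩ := (inferInstance : IsCyclic (Q : Subgroup (scalars G))).exists_generator
          have hσg : σ g ∈ (Q : Subgroup (scalars G)) := mem_sylow_of_dvd Q (orderOf_map_of_isPGroup Q.2 σ g)
          obtain ⟨k, hk⟩ := Subgroup.mem_zpowers_iff.mp (hg ⟨σ g, hσg⟩)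
          replace hk : (g : scalars G) ^ k = σ g := congrArg Subtype.val hk
          obtain ⟨e, he⟩ := (Nat.dvd_prime_pow hr).mp (show orderOf (g : scalars G) ∣ r ^ (Nat.card (scalars G)).factorization r by
            rw [← Q.card_eq_multiplicity, Subgroup.orderOf_coe]
            exact orderOf_dvd_natCard g)
          have hkk : ((r : ℤ) ^ e) ∣ (k - 1) * (k + 1) := by
            have h2 : (g : scalars G) ^ (k * k - 1) = 1 := by
              rw [zpow_sub, zpow_mul, hk, ← map_zpow, hk, h.conjHom_conjHom hw w0 w1, zpow_one, mul_inv_cancel]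
            rw [show (k - 1) * (k + 1) = k * k - 1 by ring, ← Nat.cast_pow, ← he.2]
            exact orderOf_dvd_iff_zpow_eq_one.mpr h2
          have hr2 : r ≠ 2 := by
            rintro rfl
            exact Nat.not_even_iff_odd.mpr hodd (even_iff_two_dvd.mpr hrn)
          have hrprime : Prime (r : ℤ) := Nat.prime_iff_prime_int.mp hr
          have hnot : ¬ ((r : ℤ) ∣ k - 1 ∧ (r : ℤ) ∣ k + 1) := fun ⟨x, y⟩ => by
            have h2 := dvd_sub y x
            rw [show k + 1 - (k - 1) = ((2 : ℕ) : ℤ) by push_cast; ring, Int.natCast_dvd_natCast] at h2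
            exact hr2 ((Nat.prime_dvd_prime_iff_eq hr Nat.prime_two).mp h2)
          have hgen : ∀ x ∈ (Q : Subgroup (scalars G)), ∃ i : ℤ, (g : scalars G) ^ i = x := fun x hx => by
            obtain ⟨i, hi⟩ := Subgroup.mem_zpowers_iff.mp (hg ⟨x, hx⟩)
            exact ⟨i, congrArg Subtype.val hi⟩
          rcases Classical.em ((r : ℤ) ∣ k - 1) with h2 | h2
          · exfalso
            have h3 : ((r : ℤ) ^ e) ∣ k - 1 := hrprime.pow_dvd_of_dvd_mul_right e (fun y => hnot ⟨h2, y⟩) hkk
            rw [← Nat.cast_pow, ← he.2, orderOf_dvd_iff_zpow_eq_one, zpow_sub, zpow_one, hk, mul_inv_eq_one] at h3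
            obtain ⟨i, rfl⟩ := hgen a haQ
            exact hane (by rw [map_zpow, h3])
          · have h3 : ((r : ℤ) ^ e) ∣ k + 1 := hrprime.pow_dvd_of_dvd_mul_left e h2 hkk
            rw [← Nat.cast_pow, ← he.2, orderOf_dvd_iff_zpow_eq_one, zpow_add, zpow_one, hk] at h3
            intro x hx
            obtain ⟨i, rfl⟩ := hgen x hx
            rw [MonoidHom.mem_ker, map_zpow, show inv' g = σ g * g from rfl, h3, one_zpow]
      intro a
      have := (MonoidHom.mem_ker).mp (show a ∈ inv'.ker by rw [hker]; trivial)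
      exact eq_inv_of_mul_eq_one_left this
    have hS : SwapInvol G := by
      obtain ⟨c, hc, hww⟩ := h.sq_swap hw w0 w1
      have hc1 : c = 1 := by
        have h2 : σ ⟨c, hc⟩ = ⟨c, hc⟩ := by
          refine Subtype.ext (sc_injective ?_)
          rw [h.sc_conjHom, ← hww]
          group
        rw [hinv, inv_eq_iff_mul_eq_one] at h2
        have h3 : orderOf (⟨c, hc⟩ : scalars G) ∣ 2 := orderOf_dvd_of_pow_eq_one (by rw [pow_two, h2])
        have h4 : orderOf (⟨c, hc⟩ : scalars G) ∣ n := hn ▸ orderOf_dvd_natCard _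
        have h5 := Nat.dvd_gcd h3 h4
        rw [(Nat.coprime_two_left.mpr hodd).gcd_eq_one] at h5
        exact congrArg Subtype.val (orderOf_eq_one_iff.mp (Nat.eq_one_of_dvd_one h5))
      intro v hv v0 v1
      obtain ⟨b, hb, rfl⟩ := h.eq_mul_sc hw w0 w1 hv v0 v1
      have e := h.sc_conjHom hw w0 w1 ⟨b, hb⟩
      rw [hinv] at e
      calc w * sc b * (w * sc b) = (w * sc b * w⁻¹) * (w * w) * sc b := by group
        _ = 1 := by
          rw [← e, hww, hc1, map_one, mul_one, ← map_mul, Subgroup.coe_inv, inv_mul_cancel, map_one]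
    refine Or.inr ⟨?_, hS⟩
    haveI := Fintype.ofFinite G
    haveI := Fintype.ofFinite (Stab G)
    haveI := Fintype.ofFinite (scalars G)
    have h2 := Nat.le_of_dvd (by omega) (h.index_le_two hS (hn.symm ▸ hodd) (hn.symm ▸ hn3))
    obtain ⟨m, hm⟩ := hdvd
    rw [hn] at h2
    have hm2 : m ≤ 2 := Nat.le_of_mul_le_mul_left (show n * m ≤ n * 2 by omega) (by omega)
    have hpodd := hp.odd_of_ne_two (show p ≠ 2 by omega)
    interval_cases m
    · omega
    · exfalso
      obtain ⟨k, hk⟩ := hpodd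
      obtain ⟨l, hl⟩ := hodd
      omega
    · omega

end CfsgLib.DegPSucc
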