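import Mathlib
import Cfsg.Agent.DegPSucc.Setup
import Cfsg.Agent.DegPSucc.Involutions

/-!
The involution interchanging the base points is `x ↦ k / x`.
-/

set_option autoImplicit false

namespace CfsgLib.DegPSucc

variable {p : ℕ} [Fact p.Prime] {G : Subgroup (Equiv.Perm (Option (ZMod p)))}

/-- The action of a swap on the nonzero residues. -/
def swapFun (w : Equiv.Perm (Option (ZMod p))) (x : ZMod p) : ZMod p := (w (some x)).getD 0

variable {w : Equiv.Perm (Option (ZMod p))}

theorem swapFun_spec (w0 : w none = some 0) (w1 : w (some 0) = none) {x : ZMod p} (hx : x ≠ 0) :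
    w (some x) = some (swapFun w x) ∧ swapFun w x ≠ 0 := by
  obtain ⟨y, hy⟩ := Option.ne_none_iff_exists'.mp fun e : w (some x) = none =>
    hx (Option.some_injective _ (w.injective (e.trans w1.symm)))
  have e : swapFun w x = y := by simp [swapFun, hy]
  refine ⟨by rw [hy, e], fun h0 => ?_⟩
  rw [← e, h0, ← w0] at hy
  exact Option.some_ne_none _ (w.injective hy)

theorem swapFun_swapFun (w0 : w none = some 0) (w1 : w (some 0) = none) (hww : w * w = 1) {x : ZMod p}
    (hx : x ≠ 0) : swapFun w (swapFun w x) = x := by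
  have h1 := congrArg (fun g : Equiv.Perm (Option (ZMod p)) => g (some x)) hww
  simp only [Equiv.Perm.mul_apply, Equiv.Perm.one_apply, (swapFun_spec w0 w1 hx).1,
    (swapFun_spec w0 w1 (swapFun_spec w0 w1 hx).2).1] at h1
  exact Option.some_injective _ h1

theorem Coord.swapFun_mul (h : Coord G) (hw : w ∈ G) (w0 : w none = some 0) (w1 : w (some 0) = none) (a : scalars G)
    {x : ZMod p} (hx : x ≠ 0) :
    swapFun w (((a : (ZMod p)ˣ) : ZMod p) * x) = ((h.conjHom hw w0 w1 a : (ZMod p)ˣ) : ZMod p) * swapFun w x := by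
  have h1 := congrArg (fun g : Equiv.Perm (Option (ZMod p)) => g (w (some x))) (h.sc_conjHom hw w0 w1 a)
  simp only [Equiv.Perm.mul_apply, Equiv.Perm.inv_def, Equiv.symm_apply_apply, sc_some] at h1
  rw [(swapFun_spec w0 w1 hx).1, sc_some, (swapFun_spec w0 w1 (mul_ne_zero (Units.ne_zero _) hx)).1] at h1
  exact (Option.some_injective _ h1).symm

/-- The fundamental identity. -/
theorem Coord.swap_identity (h : Coord G) (hw : w ∈ G) (w0 : w none = some 0) (w1 : w (some 0) = none)
    (hww : w * w = 1) {c : ZMod p} (hc : c ≠ 0) :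
    ∃ a : ZMod p, a ≠ 0 ∧ swapFun w (-(a * swapFun w (-c))) = -swapFun w c ∧
      ∀ x, x ≠ 0 → x ≠ swapFun w (-c) →
        swapFun w (swapFun w x + c) - swapFun w c = swapFun w (a * (x - swapFun w (-c))) := by
  have hs := fun {x : ZMod p} => @swapFun_spec p _ w w0 w1 x
  set x₀ := swapFun w (-c) with hx₀def
  have hnc : (-c) ≠ 0 := neg_ne_zero.mpr hc
  have hx₀ : x₀ ≠ 0 := (hs hnc).2
  have hwx₀ : w (some x₀) = some (-c) := by rw [(hs hx₀).1, swapFun_swapFun w0 w1 hww hnc]
  set v := tr (-swapFun w c) * w * tr c * w * tr x₀ with hv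
  have v0 : v none = some 0 := by simp [hv, w0, (hs hc).1]
  have v1 : v (some 0) = none := by simp [hv, hwx₀, w1]
  obtain ⟨a, ha, hva⟩ := h.eq_mul_sc hw w0 w1
    (G.mul_mem (G.mul_mem (G.mul_mem (G.mul_mem (h.tr_mem _) hw) (h.tr_mem _)) hw) (h.tr_mem _)) v0 v1
  have key : ∀ y : ZMod p, v (some y) = w (some ((a : ZMod p) * y)) := fun y => by rw [hv, hva]; simp
  refine ⟨a, Units.ne_zero a, ?_, fun x hx hxx => ?_⟩
  · have e := key (-x₀)
    rw [(hs (mul_ne_zero (Units.ne_zero a) (neg_ne_zero.mpr hx₀))).1] at e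
    simp [hv, w0, w1] at e
    exact e.symm
  · have hy : x - x₀ ≠ 0 := sub_ne_zero.mpr hxx
    have e := key (x - x₀)
    rw [(hs (mul_ne_zero (Units.ne_zero a) hy)).1] at e
    have hne : swapFun w x + c ≠ 0 := fun e0 => hxx (by
      rw [hx₀def, ← eq_neg_of_add_eq_zero_left e0, swapFun_swapFun w0 w1 hww hx])
    simp [hv, (hs hx).1, (hs hne).1] at e
    linear_combination e

/-- All scalars. -/
theorem shape_full (h : Coord G) (hp5 : 5 ≤ p) (hd : Nat.card (scalars G) = p - 1) (hw : w ∈ G) (w0 : w none = some 0)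
    (w1 : w (some 0) = none) (hww : w * w = 1) :
    ∀ x, x ≠ 0 → swapFun w x = swapFun w 1 * x⁻¹ := by
  classical
  have hp : p.Prime := Fact.out
  have htop : scalars G = ⊤ := Subgroup.eq_top_of_le_card _ (by rw [hd, Nat.card_units, Nat.card_zmod])
  set k := swapFun w 1 with hk
  have hk0 : k ≠ 0 := (swapFun_spec w0 w1 one_ne_zero).2
  let s : ZMod p → ZMod p := fun x => swapFun w x / k
  have hs : ∀ {x}, x ≠ 0 → swapFun w x = s x * k := fun {x} _ => by simp [s, hk0]
  have hs0 : ∀ {x}, x ≠ 0 → s x ≠ 0 := fun {x} hx => div_ne_zero (swapFun_spec w0 w1 hx).2 hk0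
  have hmul : ∀ {x y}, x ≠ 0 → y ≠ 0 → s (x * y) = s x * s y := by
    intro x y hx hy
    have ha : Units.mk0 x hx ∈ scalars G := htop ▸ Subgroup.mem_top _
    have e1 := h.swapFun_mul hw w0 w1 ⟨_, ha⟩ hy
    have e2 := h.swapFun_mul hw w0 w1 ⟨_, ha⟩ one_ne_zero
    simp only [Units.val_mk0, mul_one] at e1 e2
    rw [← hk] at e2
    simp only [s, e1, e2]
    field_simp
  have hs1 : s 1 = 1 := div_self hk0
  have hsk : s k * k = 1 := by
    rw [← hs hk0, hk, swapFun_swapFun w0 w1 hww one_ne_zero]
  have hss : ∀ {x}, x ≠ 0 → s (s x) = x := by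
    intro x hx
    have e := swapFun_swapFun w0 w1 hww hx
    rw [hs (swapFun_spec w0 w1 hx).2, hs hx, hmul (hs0 hx) hk0, mul_assoc, hsk, mul_one] at e
    exact e
  have h2 : (2 : ZMod p) ≠ 0 := fun e => by
    have h1 := Nat.le_of_dvd (by omega) ((ZMod.natCast_eq_zero_iff 2 p).mp (by exact_mod_cast e))
    omega
  have hsn : s (-1) = -1 := by
    have hn : (-1 : ZMod p) ≠ 0 := by simp
    have e : s (-1) * s (-1) = 1 := by rw [← hmul hn hn]; norm_num [hs1]
    rcases mul_self_eq_one_iff.mp e with e | e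
    · exfalso
      have := hss hn
      rw [e, hs1] at this
      exact h2 (by linear_combination this)
    · exact e
  obtain ⟨a, ha, hax, hid⟩ := h.swap_identity hw w0 w1 hww (c := 1) one_ne_zero
  have hx₀ : swapFun w (-1) = -k := by rw [hs (by simp), hsn]; ring
  rw [hx₀, ← hk] at hax
  simp only [hx₀, ← hk] at hid
  have hak : a = -k⁻¹ := by
    have h1 : -(a * -k) = a * k := by ring
    rw [h1, hs (mul_ne_zero ha hk0)] at hax
    have h3 : s (a * k) = -1 := mul_right_cancel₀ hk0 (by rw [hax]; ring)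
    have h4 := hss (mul_ne_zero ha hk0)
    rw [h3, hsn] at h4
    field_simp
    linear_combination -h4
  have hE : ∀ v, v ≠ 0 → v + 1 ≠ 0 → s (1 + s v) = 1 - s (1 + v) := by
    intro v hv hv1
    have hkv : k * v ≠ 0 := mul_ne_zero hk0 hv
    have hkv' : k * v ≠ -k := fun e => hv1 (mul_left_cancel₀ hk0 (by linear_combination e))
    have e := hid (k * v) hkv hkv'
    have e1 : swapFun w (k * v) = s v := by
      rw [hs hkv, hmul hk0 hv, mul_comm (s k), mul_assoc, hsk, mul_one]
    have e2 : a * (k * v - -k) = (-1) * (1 + v) := by rw [hak]; field_simp; ring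
    have hsv : s v + 1 ≠ 0 := fun e => hv1 (by
      have := hss hv
      rw [eq_neg_of_add_eq_zero_left e, hsn] at this
      linear_combination -this)
    have hv1' : (1 : ZMod p) + v ≠ 0 := by rwa [add_comm]
    rw [e1, hs hsv, e2, hs (mul_ne_zero (by simp) hv1'), hmul (by simp) hv1', hsn, add_comm (s v)] at e
    exact mul_right_cancel₀ hk0 (by linear_combination e)
  have hstep : ∀ v, v ≠ 0 → v + 1 ≠ 0 → v * v ≠ 1 → s v = v⁻¹ → s (v + 1) = (v + 1)⁻¹ := by
    intro v hv hv1 hvv hsv
    have hvi : v⁻¹ ≠ 0 := inv_ne_zero hv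
    have hvi1 : v⁻¹ + 1 ≠ 0 := fun e => hv1 (by field_simp at e; linear_combination e)
    have hsi : s v⁻¹ = v := by rw [← hsv, hss hv]
    have eB := hE v hv hv1
    rw [hsv] at eB
    have eC : s (1 + v⁻¹) = v * s (1 + v) := by
      rw [show 1 + v⁻¹ = v⁻¹ * (1 + v) by field_simp; ring, hmul hvi (by rwa [add_comm]), hsi]
    rw [eC] at eB
    rw [add_comm v 1]
    refine eq_inv_of_mul_eq_one_left ?_
    linear_combination eB
  have hnat : ∀ n : ℕ, 1 ≤ n → n < p → s (n : ZMod p) = (n : ZMod p)⁻¹ := by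
    intro n
    induction n with
    | zero => intro h0; omega
    | succ n ih =>
      intro _ hlt
      have hne : ∀ m : ℕ, 1 ≤ m → m < p → (m : ZMod p) ≠ 0 := fun m h1 h2 e => by
        have := Nat.le_of_dvd (by omega) ((ZMod.natCast_eq_zero_iff m p).mp e)
        omega
      rcases Nat.lt_or_ge n 1 with h0 | h0
      · interval_cases n; simp [hs1]
      · have hn0 := hne n h0 (by omega)
        have hn1 : (n : ZMod p) + 1 ≠ 0 := by have := hne (n + 1) (by omega) hlt; push_cast at this; exact this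
        push_cast
        by_cases hnn : (n : ZMod p) * n = 1
        · rcases mul_self_eq_one_iff.mp hnn with e | e
          · rw [e]
            have e2 := hE 1 one_ne_zero (by rw [one_add_one_eq_two]; exact h2)
            rw [hs1] at e2
            exact eq_inv_of_mul_eq_one_left (by linear_combination e2)
          · exact absurd (by rw [e]; ring) hn1
        · exact hstep _ hn0 hn1 hnn (ih h0 (by omega))
  intro x hx
  have := hnat x.val (Nat.one_le_iff_ne_zero.mpr fun e => hx ((ZMod.val_eq_zero x).mp e)) (ZMod.val_lt x)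
  rw [ZMod.natCast_zmod_val] at this
  rw [hs hx, this, mul_comm]

theorem card_linear_roots {B C : ZMod p} (hB : B ≠ 0) :
    (Finset.univ.filter fun x : ZMod p => B * x + C = 0).card ≤ 1 := by
  refine Finset.card_le_one.mpr fun x hx y hy => ?_
  simp at hx hy
  exact mul_left_cancel₀ hB (by linear_combination hx - hy)

theorem card_quadratic_roots {A B C : ZMod p} (hA : A ≠ 0) :
    (Finset.univ.filter fun x : ZMod p => A * (x * x) + B * x + C = 0).card ≤ 2 := by
  rcases Finset.eq_empty_or_nonempty (Finset.univ.filter fun x : ZMod p => A * (x * x) + B * x + C = 0) with e | ⟨r, hr⟩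
  · rw [e]; simp
  · refine (Finset.card_le_card (t := {r, -B / A - r}) fun x hx => ?_).trans Finset.card_le_two
    simp at hx hr ⊢
    have h1 : (x - r) * (A * (x + r) + B) = 0 := by linear_combination hx - hr
    rcases mul_eq_zero.mp h1 with h2 | h2
    · exact Or.inl (sub_eq_zero.mp h2)
    · refine Or.inr ?_
      field_simp
      linear_combination h2

/-- The exceptional configuration has no solution for small primes. -/
def NoTwist (p : ℕ) : Prop :=
  ∀ K0 K1 : ZMod p, K0 ^ ((p - 1) / 2) = 1 → K1 ^ ((p - 1) / 2) = 1 → K0 ≠ K1 →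
    let K := fun z : ZMod p => if z ^ ((p - 1) / 2) = 1 then K0 else K1
    ∃ x : Fin p, let x : ZMod p := (x.val : ZMod p)
      x ≠ 0 ∧ x + K (-1) ≠ 0 ∧ K x + x ≠ 0 ∧
      ¬ K0 * (K (-(x + K (-1))) - x - K (-1)) * (K x + x) + K ((K x + x) * x) * x * (x + K (-1)) = 0

theorem noTwist_five : NoTwist 5 := by unfold NoTwist; decide +kernel
theorem noTwist_seven : NoTwist 7 := by unfold NoTwist; decide +kernel
theorem noTwist_eleven : NoTwist 11 := by unfold NoTwist; decide +kernel
theorem noTwist_thirteen : NoTwist 13 := by unfold NoTwist; decide +kernel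

/-- Half of the scalars, all swaps involutions. -/
theorem shape_half (h : Coord G) (hp5 : 5 ≤ p) (hd : 2 * Nat.card (scalars G) = p - 1) (hS : SwapInvol G) (hw : w ∈ G)
    (w0 : w none = some 0) (w1 : w (some 0) = none) :
    ∀ x, x ≠ 0 → swapFun w x = swapFun w 1 * x⁻¹ := by
  classical
  have hp : p.Prime := Fact.out
  set d := (p - 1) / 2 with hddef
  have hd' : Nat.card (scalars G) = d := by omega
  have hpd : p = 2 * d + 1 := by omega
  have hww := hS w hw w0 w1
  have hs := fun {x : ZMod p} => @swapFun_spec p _ w w0 w1 x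
  -- the scalars are the squares
  have hscal : ∀ u : (ZMod p)ˣ, u ∈ scalars G ↔ u ^ d = 1 := by
    have hle : (Finset.univ.filter fun u : (ZMod p)ˣ => u ∈ scalars G) ⊆ Finset.univ.filter fun u => u ^ d = 1 := by
      intro u hu
      simp only [Finset.mem_filter, Finset.mem_univ, true_and] at hu ⊢
      rw [← hd']
      exact congrArg Subtype.val (pow_card_eq_one' (x := (⟨u, hu⟩ : scalars G)))
    have hc : (Finset.univ.filter fun u : (ZMod p)ˣ => u ∈ scalars G).card = d := by
      rw [← hd', Nat.card_eq_fintype_card, Fintype.card_subtype]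
    have he := Finset.eq_of_subset_of_card_le hle (by
      rw [hc]; exact IsCyclic.card_pow_eq_one_le (by omega))
    intro u
    have := Finset.ext_iff.mp he u
    simpa using this
  have hmul : ∀ {a x : ZMod p}, a ^ d = 1 → x ≠ 0 → swapFun w (a * x) = swapFun w x / a := by
    intro a x ha hx
    have ha0 : a ≠ 0 := by
      rintro rfl
      rw [zero_pow (by omega)] at ha
      exact zero_ne_one ha
    have hu : Units.mk0 a ha0 ∈ scalars G := (hscal _).mpr (Units.ext (by simpa using ha))
    have e := h.swapFun_mul hw w0 w1 ⟨_, hu⟩ hx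
    have e2 : h.conjHom hw w0 w1 ⟨_, hu⟩ = (⟨_, hu⟩ : scalars G)⁻¹ := by
      refine Subtype.ext (sc_injective ?_)
      rw [h.sc_conjHom, hS.conj hw w0 w1 hu, Subgroup.coe_inv]
    rw [e2] at e
    simp only [Units.val_mk0, Subgroup.coe_inv, Units.val_inv_eq_inv_val] at e
    rw [e, div_eq_inv_mul]
  -- the character
  have hchi : ∀ x : ZMod p, x ≠ 0 → x ^ d = 1 ∨ x ^ d = -1 := fun x hx => by
    refine mul_self_eq_one_iff.mp ?_
    rw [← pow_add, show d + d = p - 1 by omega]
    exact ZMod.pow_card_sub_one_eq_one hx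
  let Kf : ZMod p → ZMod p := fun x => x * swapFun w x
  have hKeq : ∀ {x y : ZMod p}, x ≠ 0 → y ≠ 0 → x ^ d = y ^ d → Kf x = Kf y := by
    intro x y hx hy hxy
    have ha : (x / y) ^ d = 1 := by rw [div_pow, hxy, div_self (pow_ne_zero _ hy)]
    have e := hmul ha hy
    rw [div_mul_cancel₀ x hy] at e
    simp only [Kf, e]
    field_simp
  have hK0 : ∀ {x : ZMod p}, x ≠ 0 → Kf x ≠ 0 := fun hx => mul_ne_zero hx (hs hx).2
  have hKW : ∀ {x : ZMod p}, x ≠ 0 → Kf (swapFun w x) = Kf x := fun {x} hx => by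
    simp only [Kf, swapFun_swapFun w0 w1 hww hx, mul_comm]
  set k := swapFun w 1 with hk
  have hk0 : k ≠ 0 := (hs one_ne_zero).2
  have hKone : Kf 1 = k := one_mul _
  by_contra hcon
  push Not at hcon
  obtain ⟨z, hz, hzk⟩ := hcon
  set K1 := Kf z with hK1
  have hK1k : K1 ≠ k := fun e => hzk (by rw [← e, hK1]; simp only [Kf]; field_simp)
  have hzd : z ^ d = -1 := (hchi z hz).resolve_left fun e => hK1k (by
    rw [hK1, hKeq hz one_ne_zero (by rw [e, one_pow]), hKone])
  set K : ZMod p → ZMod p := fun x => if x ^ d = 1 then k else K1 with hK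
  have hKf : ∀ {x : ZMod p}, x ≠ 0 → Kf x = K x := by
    intro x hx
    simp only [hK]
    split_ifs with e
    · rw [hKeq hx one_ne_zero (by rw [e, one_pow]), hKone]
    · rw [hKeq hx hz (((hchi x hx).resolve_left e).trans hzd.symm)]
  have hW : ∀ {x : ZMod p}, x ≠ 0 → swapFun w x = K x / x := fun {x} hx => by
    rw [← hKf hx]; simp only [Kf]; field_simp
  have hksq : k ^ d = 1 := (hchi k hk0).resolve_right fun e => hK1k (by
    exact (hKeq hz hk0 (hzd.trans e.symm)).trans ((hKW one_ne_zero).trans hKone))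
  have hneg1 : (1 : ZMod p) ≠ -1 := fun e => by
    have h2 : ((2 : ℕ) : ZMod p) = 0 := by push_cast; linear_combination e
    have h1 := Nat.le_of_dvd (by omega) ((ZMod.natCast_eq_zero_iff 2 p).mp h2)
    omega
  have hK1sq : K1 ^ d = 1 := (hchi K1 (hK0 hz)).resolve_right fun e => by
    have h1 : (swapFun w z) ^ d = 1 := by
      rw [show swapFun w z = K1 / z by rw [hK1]; simp only [Kf]; field_simp, div_pow, e, hzd, div_neg, neg_div, neg_neg, div_one]
    have h2 := hKW hz
    rw [hKf (hs hz).2] at h2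
    simp only [hK, if_pos h1] at h2
    exact hK1k h2.symm
  -- the identity
  obtain ⟨a, ha, hax, hid⟩ := h.swap_identity hw w0 w1 hww (c := 1) one_ne_zero
  have hm1 : (-1 : ZMod p) ≠ 0 := by simp
  set Km := K (-1) with hKm
  have hx₀ : swapFun w (-1) = -Km := by rw [hW hm1, hKm, div_neg, div_one]
  rw [hx₀, ← hk] at hax
  simp only [hx₀, ← hk] at hid
  have hKm0 : Km ≠ 0 := by rw [hKm, ← hKf hm1]; exact hK0 hm1
  have hKsq : ∀ x : ZMod p, (K x) ^ d = 1 := fun x => by simp only [hK]; split_ifs <;> assumption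
  have hKcongr : ∀ {x y : ZMod p}, x ^ d = y ^ d → K x = K y := fun e => by simp only [hK, e]
  have hak : a = -k⁻¹ := by
    have haKm : a * Km ≠ 0 := mul_ne_zero ha hKm0
    rw [show -(a * -Km) = a * Km by ring] at hax
    have h3 := swapFun_swapFun w0 w1 hww haKm
    rw [hax, hW (neg_ne_zero.mpr hk0),
      hKcongr (show (-k) ^ d = (-1 : ZMod p) ^ d by rw [neg_pow, hksq, mul_one]), ← hKm] at h3
    field_simp at h3 ⊢
    linear_combination -h3
  have hEq : ∀ x, x ≠ 0 → x + Km ≠ 0 → K x + x ≠ 0 →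
      k * (K (-(x + Km)) - x - Km) * (K x + x) + K ((K x + x) * x) * x * (x + Km) = 0 := by
    intro x hx hxm hxK
    have e := hid x hx fun e => hxm (by rw [e]; ring)
    have hne : swapFun w x + 1 ≠ 0 := by
      rw [hW hx, div_add_one hx]; exact div_ne_zero hxK hx
    have hxm' : a * (x - -Km) ≠ 0 := mul_ne_zero ha (by rwa [sub_neg_eq_add])
    rw [hW hne, hW hxm'] at e
    have c1 : K (swapFun w x + 1) = K ((K x + x) * x) := hKcongr (by
      rw [hW hx, div_add_one hx, div_pow, mul_pow, div_eq_mul_inv]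
      congr 1
      rcases hchi x hx with e | e <;> rw [e] <;> simp)
    have c2 : K (a * (x - -Km)) = K (-(x + Km)) := hKcongr (by
      rw [hak, show -k⁻¹ * (x - -Km) = k⁻¹ * (-(x + Km)) by ring, mul_pow, inv_pow, hksq, inv_one, one_mul])
    rw [c1, c2, hW hx, hak, sub_neg_eq_add] at e
    field_simp at e
    rw [mul_comm x (K x + x)] at e
    linear_combination e
  rcases le_or_gt p 13 with hp13 | hp13
  · have hNT : NoTwist p := by
      have hcases : p = 5 ∨ p = 7 ∨ p = 11 ∨ p = 13 := by
        interval_cases p <;> first | omega | exact absurd hp (by norm_num)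
      rcases hcases with rfl | rfl | rfl | rfl
      · exact noTwist_five
      · exact noTwist_seven
      · exact noTwist_eleven
      · exact noTwist_thirteen
    obtain ⟨x, h1, h2, h3, h4⟩ := hNT k K1 hksq hK1sq hK1k.symm
    exact h4 (hEq _ h1 h2 h3)
  · -- many solutions
    obtain ⟨Ka, hKa, hKam, e, he, hcl⟩ : ∃ Ka, (Ka = k ∨ Ka = K1) ∧ Ka ≠ Km ∧ ∃ e : ZMod p, e ≠ 0 ∧
        ∀ x, x ≠ 0 → x ^ d = e ^ d → K x = Ka := by
      rcases hchi (-1) hm1 with e | e
      · refine ⟨K1, Or.inr rfl, ?_, z, hz, fun x _ hx => ?_⟩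
        · rw [hKm]; simp only [hK, if_pos e]; exact hK1k
        · rw [hzd] at hx; simp only [hK]; rw [if_neg]; rw [hx]; exact hneg1.symm
      · refine ⟨k, Or.inl rfl, ?_, 1, one_ne_zero, fun x _ hx => ?_⟩
        · rw [hKm]; simp only [hK]; rw [if_neg (by rw [e]; exact hneg1.symm)]; exact hK1k.symm
        · rw [one_pow] at hx; simp only [hK, if_pos hx]
    set S := Finset.univ.filter fun x : ZMod p => x ≠ 0 ∧ x ^ d = e ^ d with hS'
    have hScard : d ≤ S.card := by
      haveI := Fintype.ofFinite (scalars G)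
      rw [← hd', Nat.card_eq_fintype_card, ← Finset.card_univ]
      refine Finset.card_le_card_of_injOn (fun u : scalars G => e * ((u : (ZMod p)ˣ) : ZMod p)) (fun u _ => ?_) ?_
      · refine Finset.mem_filter.mpr ⟨Finset.mem_univ _, mul_ne_zero he (Units.ne_zero _), ?_⟩
        rw [mul_pow, ← Units.val_pow_eq_pow_val, (hscal _).mp u.2, Units.val_one, mul_one]
      · intro u _ u' _ huu
        exact Subtype.ext (Units.ext (mul_left_cancel₀ he huu))
    -- roots
    let F : ZMod p → ZMod p → Finset (ZMod p) := fun Kb Kc => Finset.univ.filter fun x =>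
      (Kb - k) * (x * x) + (k * (Kc - Km - Ka) + Kb * Km) * x + k * Ka * (Kc - Km) = 0
    have hsub : S ⊆ F k k ∪ F k K1 ∪ (F K1 k ∪ F K1 K1) := by
      intro x hx
      obtain ⟨-, hx0, hxd⟩ := Finset.mem_filter.mp hx
      have hKx := hcl x hx0 hxd
      have hxK : K x + x ≠ 0 := fun e0 => hKam (by
        have hxeq : x = -1 * Ka := by rw [← hKx]; linear_combination e0
        have h1 : x ^ d = (-1 : ZMod p) ^ d := by
          rw [hxeq, mul_pow]
          rcases hKa with r | r <;> rw [r] <;> simp [hksq, hK1sq]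
        rw [← hKx, hKcongr h1])
      have hxm : x + Km ≠ 0 := fun e0 => hKam (by
        have h1 : x ^ d = (-1 : ZMod p) ^ d := by
          rw [show x = -1 * Km by linear_combination e0, mul_pow, hKm, hKsq, mul_one]
        rw [← hKx, hKcongr h1])
      have e1 := hEq x hx0 hxm hxK
      rw [hKx] at e1
      have hKv : ∀ y, K y = k ∨ K y = K1 := fun y => by simp only [hK]; split_ifs <;> simp
      have hx' : x ∈ F (K ((Ka + x) * x)) (K (-(x + Km))) :=
        Finset.mem_filter.mpr ⟨Finset.mem_univ _, by linear_combination e1⟩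
      rcases hKv ((Ka + x) * x) with r | r <;> rcases hKv (-(x + Km)) with r' | r' <;> rw [r, r'] at hx' <;>
        simp only [Finset.mem_union] <;> tauto
    have hlin : ∀ Kc, (F k Kc).card ≤ 1 := by
      intro Kc
      by_cases hKc : Kc = Ka
      · subst hKc
        have : F k Kc = ∅ := by
          refine Finset.filter_eq_empty_iff.mpr fun x _ e => ?_
          have : k * Kc * (Kc - Km) = 0 := by linear_combination e
          exact mul_ne_zero (mul_ne_zero hk0 (by rcases hKa with r | r <;> rw [r]; exacts [hk0, hK0 hz])) (sub_ne_zero.mpr hKam) this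
        rw [this]; simp
      · refine (Finset.card_le_card fun x hx => ?_).trans (card_linear_roots (B := Kc - Ka) (C := Ka * (Kc - Km)) (sub_ne_zero.mpr hKc))
        simp [F] at hx ⊢
        exact mul_left_cancel₀ hk0 (by linear_combination hx)
    have hquad : ∀ Kc, (F K1 Kc).card ≤ 2 := fun Kc => card_quadratic_roots (sub_ne_zero.mpr hK1k)
    have := Finset.card_le_card hsub
    have := Finset.card_union_le (F k k ∪ F k K1) (F K1 k ∪ F K1 K1)
    have := Finset.card_union_le (F k k) (F k K1)
    have := Finset.card_union_le (F K1 k) (F K1 K1)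
    have := hlin k; have := hlin K1; have := hquad k; have := hquad K1
    -- at most six solutions
    omega

end CfsgLib.DegPSucc
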